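import Groth.Agent.Fano.K949.ConB
import Groth.Agent.CurvesC.TwoAffine

/-!
# Cohomology of conics over an affine base

`subsingleton_HH_one`: `H¹(C, O(1)) = 0`; `subsingleton_HH_two_le`: `H^q(C, M) = 0` for `q ≥ 2` and `M` quasi-coherent.
-/

set_option autoImplicit false
universe u v

open CategoryTheory CategoryTheory.Limits AlgebraicGeometry TopologicalSpace Opposite

namespace K385.ConCoh

open Groth.Agent.Fdesc.LocGen Groth.Agent.Dix.ProjProper K188.LineDef K188.MapP1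
open K745.ConDef K949.ConAlg K949.Chart

variable {T C : Scheme.{u}} {c : Fin 5 → Γ(T, ⊤)} {f : C ⟶ T} {L : C.Modules} {x : Fin 3 → Γ(L, ⊤)}

theorem exists_pow (h : CD c f x) {V : T.Opens} (hV : IsAffineOpen V) (z : Γ(C, W12 f x V)) :
    ∃ (g : Γ(C, UV f x V)) (N : ℕ), ores (inf_le_left : W12 f x V ≤ UV f x V) g =
      z * ores (inf_le_left.trans inf_le_left : W12 f x V ≤ gl (x 1)) (cs x) ^ N := by
  have hU := isAffineOpen_UV h hV
  let alg : Algebra Γ(C, UV f x V) Γ(C, W12 f x V) :=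
    (C.presheaf.map (homOfLE (inf_le_left : W12 f x V ≤ UV f x V)).op).hom.toAlgebra
  have hloc := hU.isLocalization_of_eq_basicOpen (ores (inf_le_left : UV f x V ≤ gl (x 1)) (cs x))
    (homOfLE (inf_le_left : W12 f x V ≤ UV f x V)) (W12_eq V)
  obtain ⟨N, g, hg⟩ := IsLocalization.Away.surj (ores (inf_le_left : UV f x V ≤ gl (x 1)) (cs x)) z
  refine ⟨g, N, ?_⟩
  refine Eq.trans hg.symm ?_
  congr 2
  change ores (inf_le_left : W12 f x V ≤ UV f x V) (ores (inf_le_left : UV f x V ≤ gl (x 1)) (cs x)) = _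
  rw [ores_ores]

theorem isAffineOpen_W12 (h : CD c f x) {V : T.Opens} (hV : IsAffineOpen V) : IsAffineOpen (W12 f x V) := by
  rw [W12_eq]
  exact (isAffineOpen_UV h hV).basicOpen _

theorem exists_split (h : CD c f x) {V : T.Opens} (hV : IsAffineOpen V) (z : Γ(C, W12 f x V)) :
    ∃ (g₁ : Γ(C, UV f x V)) (g₂ : Γ(C, UV f (sx x) V)),
      z = ores (inf_le_left : W12 f x V ≤ UV f x V) g₁ +
        ores (inf_le_left.trans inf_le_left : W12 f x V ≤ gl (x 1)) (cs x) *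
          ores (inf_le_right : W12 f x V ≤ UV f (sx x) V) g₂ := by
  obtain ⟨hst, hw⟩ := rel (f := f) (x := x) V
  obtain ⟨g, N, hg⟩ := exists_pow h hV z
  set s := ores (inf_le_left.trans inf_le_left : W12 f x V ≤ gl (x 1)) (cs x) with hs
  set t := ores (inf_le_right.trans inf_le_left : W12 f x V ≤ gl (sx x 1)) (cs (sx x)) with ht
  set w := ores (inf_le_left.trans inf_le_left : W12 f x V ≤ gl (x 1)) (cw x) with hw'
  let ρ : Γ(T, V) →+* Γ(C, W12 f x V) := (ores (inf_le_left : W12 f x V ≤ UV f x V)).comp (rho f x V)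
  have hρ : ρ = (ores (inf_le_right : W12 f x V ≤ UV f (sx x) V)).comp (rho f (sx x) V) := by
    ext a
    exact (ores_appLE f inf_le_left _ (inf_le_left.trans inf_le_right) a).trans
      (ores_appLE f inf_le_right _ (inf_le_left.trans inf_le_right) a).symm
  have k1 : ∀ P Q : Polynomial Γ(T, V), ores (inf_le_left : W12 f x V ≤ UV f x V) (PhiV h.van V ⟨P, Q⟩) =
      Polynomial.eval₂ ρ s P + Polynomial.eval₂ ρ s Q * w := by
    intro P Q
    rw [PhiV, Phi_mk, map_add, map_mul, Polynomial.hom_eval₂, Polynomial.hom_eval₂, ores_ores, ores_ores]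
  have key : ∀ (N : ℕ) (P Q : Polynomial Γ(T, V)), ∃ (g₁ : Γ(C, UV f x V)) (g₂ : Γ(C, UV f (sx x) V)),
      t ^ N * (Polynomial.eval₂ ρ s P + Polynomial.eval₂ ρ s Q * w) =
        ores (inf_le_left : W12 f x V ≤ UV f x V) g₁ + s * ores (inf_le_right : W12 f x V ≤ UV f (sx x) V) g₂ := by
    intro N
    induction N with
    | zero =>
      intro P Q
      refine ⟨PhiV h.van V ⟨P, Q⟩, 0, ?_⟩
      rw [k1, map_zero]
      ring
    | succ N ih =>
      intro P Q
      obtain ⟨g₁, g₂, hg⟩ := ih P.divX Q.divX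
      refine ⟨g₁, g₂ + (rho f (sx x) V (P.coeff 0) * ores inf_le_left (cs (sx x)) ^ (N + 2) +
        rho f (sx x) V (Q.coeff 0) * ores inf_le_left (cs (sx x)) ^ (N + 1) * ores inf_le_left (cw (sx x))), ?_⟩
      have e1 : ∀ a, ores (inf_le_right : W12 f x V ≤ UV f (sx x) V) (rho f (sx x) V a) = ρ a := by
        intro a
        rw [hρ]
        rfl
      have e2 : ∀ P : Polynomial Γ(T, V), Polynomial.eval₂ ρ s P =
          Polynomial.eval₂ ρ s P.divX * s + ρ (P.coeff 0) := by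
        intro P
        conv_lhs => rw [← Polynomial.divX_mul_X_add P]
        rw [Polynomial.eval₂_add, Polynomial.eval₂_mul, Polynomial.eval₂_X, Polynomial.eval₂_C]
      have e3 : ores (inf_le_right : W12 f x V ≤ UV f (sx x) V)
          (g₂ + (rho f (sx x) V (P.coeff 0) * ores inf_le_left (cs (sx x)) ^ (N + 2) +
            rho f (sx x) V (Q.coeff 0) * ores inf_le_left (cs (sx x)) ^ (N + 1) * ores inf_le_left (cw (sx x)))) =
          ores (inf_le_right : W12 f x V ≤ UV f (sx x) V) g₂ +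
            (ρ (P.coeff 0) * t ^ (N + 2) + ρ (Q.coeff 0) * t ^ (N + 1) * (t * w)) := by
        rw [map_add, map_add, map_mul, map_mul, map_mul, map_pow, map_pow, e1, e1, ores_ores, ores_ores, hw]
      rw [e3, e2 P, e2 Q]
      linear_combination hg + (t ^ N * (Polynomial.eval₂ ρ s P.divX + Polynomial.eval₂ ρ s Q.divX * w) -
        t ^ (N + 1) * (ρ (P.coeff 0) + ρ (Q.coeff 0) * w)) * hst
  obtain ⟨⟨P, Q⟩, rfl⟩ := (PhiV_bijective h hV).2 g
  obtain ⟨g₁, g₂, h1⟩ := key N P Q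
  refine ⟨g₁, g₂, ?_⟩
  rw [← h1, ← k1, hg]
  have h2 : s ^ N * t ^ N = 1 := by rw [← mul_pow, hst, one_pow]
  linear_combination (-z) * h2

variable {V : T.Opens}

theorem sup_UV (h : CD c f x) (hV : V = ⊤) : UV f x V ⊔ UV f (sx x) V = ⊤ := by
  subst hV
  rw [eq_top_iff]
  intro t _
  rcases h.mem_gl t with h1 | h1
  · exact Or.inl ⟨h1, trivial⟩
  · exact Or.inr ⟨h1, trivial⟩

theorem subsingleton_HH_two_le (h : CD c f x) (hT : IsAffineOpen (⊤ : T.Opens)) (M : C.Modules) (hM : Coh.IsQCoh M)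
    (q : ℕ) (hq : 2 ≤ q) : Subsingleton (Coh.HH C M q) :=
  Groth.Agent.CurvesC.TwoAffine.subsingleton_of_two_le (isAffineOpen_UV h hT) (isAffineOpen_UV h.swap hT)
    (isAffineOpen_W12 h hT) (sup_UV h rfl) M hM q hq

theorem subsingleton_HH_one (h : CD c f x) (hT : IsAffineOpen (⊤ : T.Opens)) (hL : Coh.IsQCoh L) :
    Subsingleton (Coh.HH C L 1) := by
  refine Groth.Agent.CurvesC.TwoAffine.subsingleton_one (isAffineOpen_UV h hT) (isAffineOpen_UV h.swap hT)
    (sup_UV h rfl) L hL fun z => ?_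
  have z1 : IsGen (res L (le_top : W12 f x ⊤ ≤ ⊤) (x 1)) := isGen_x1 (inf_le_left.trans inf_le_left)
  obtain ⟨ζ, rfl⟩ := z1.exists_eq z
  obtain ⟨g₁, g₂, hg⟩ := exists_split h hT ζ
  refine ⟨g₁ • res L le_top (x 1), -(g₂ • res L le_top (x 2)), ?_⟩
  have h1 : res L (inf_le_left : W12 f x ⊤ ≤ UV f x ⊤) (g₁ • res L le_top (x 1)) =
      ores (inf_le_left : W12 f x ⊤ ≤ UV f x ⊤) g₁ • res L (le_top : W12 f x ⊤ ≤ ⊤) (x 1) := by
    rw [res_smul, res_res]
  have h2 : res L (inf_le_right : W12 f x ⊤ ≤ UV f (sx x) ⊤) (-(g₂ • res L le_top (x 2))) =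
      -(ores (inf_le_right : W12 f x ⊤ ≤ UV f (sx x) ⊤) g₂ •
        (ores (inf_le_left.trans inf_le_left : W12 f x ⊤ ≤ gl (x 1)) (cs x) •
          res L (le_top : W12 f x ⊤ ≤ ⊤) (x 1))) := by
    rw [map_neg, res_smul, res_res, res_x2' (x := x) (inf_le_left.trans inf_le_left : W12 f x ⊤ ≤ gl (x 1))]
  refine (congrArg₂ (· - ·) h1 h2).trans ?_
  change _ - -_ = _
  rw [sub_neg_eq_add, smul_smul, ← add_smul, hg, mul_comm (ores (inf_le_right : W12 f x ⊤ ≤ UV f (sx x) ⊤) g₂)]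

end K385.ConCoh
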