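import Groth.Agent.Fano.K949.ConB

/-!
# Sections of `O(d)` on a conic over an affine base are forms of degree `d`

`exists_form`: functions `θ_j` on a cover `U_j` with generators `e_j` of `O(1)`, such that the `θ_j e_j^d` glue, come from
a form `F` of degree `d`: `θ_j = F(x / e_j)`.
-/

set_option autoImplicit false
universe u v

open CategoryTheory CategoryTheory.Limits AlgebraicGeometry TopologicalSpace Opposite

namespace K385.ConGlue

open Groth.Agent.Fdesc.LocGen Groth.Agent.Dix.ProjProper K188.LineDef K188.MapP1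
open K745.ConDef K949.ConAlg K949.Chart

variable {T C : Scheme.{u}} {c : Fin 5 → Γ(T, ⊤)} {f : C ⟶ T} {L : C.Modules} {x : Fin 3 → Γ(L, ⊤)}

section

variable {κ : Type v} (U : κ → C.Opens) (e : ∀ j, Γ(L, U j)) (d : ℕ) (θ : ∀ j, Γ(C, U j))

/-- The `θ_j e_j^d` glue. -/
def Glues : Prop := ∀ (j l : κ) (W : C.Opens) (hj : W ≤ U j) (hl : W ≤ U l) (t : Γ(C, W)),
  res L hj (e j) = t • res L hl (e l) → ores hl (θ l) = t ^ d * ores hj (θ j)

variable {U e d θ}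

theorem exists_fun (hU : ⨆ j, U j = ⊤) (hg : Glues U e d θ) (he : ∀ j, IsGen (e j)) {W₀ : C.Opens} (e₀ : Γ(L, W₀))
    (he₀ : IsGen e₀) : ∃ g : Γ(C, W₀), ∀ (j : κ) (W : C.Opens) (hj : W ≤ U j) (h₀ : W ≤ W₀) (t : Γ(C, W)),
      res L hj (e j) = t • res L h₀ e₀ → ores h₀ g = t ^ d * ores hj (θ j) := by
  choose u hu using fun j => (he₀.res (inf_le_left : W₀ ⊓ U j ≤ W₀)).exists_eq (res L inf_le_right (e j))
  have key : ∀ (j l : κ) (W : C.Opens) (hj : W ≤ U j) (hl : W ≤ U l) (h₀ : W ≤ W₀) (s t : Γ(C, W)),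
      res L hj (e j) = s • res L h₀ e₀ → res L hl (e l) = t • res L h₀ e₀ →
      s ^ d * ores hj (θ j) = t ^ d * ores hl (θ l) := by
    intro j l W hj hl h₀ s t hs ht
    obtain ⟨r, hr⟩ := ((he l).res hl).exists_eq (res L hj (e j))
    rw [hg j l W hj hl r hr]
    have h1 : s = r * t := (he₀.res h₀).ext (by rw [← hs, hr, ht, smul_smul])
    rw [h1]
    ring
  obtain ⟨g, hg'⟩ := ores_glue (V := W₀) (fun j => W₀ ⊓ U j) (fun j => inf_le_left)
    (by rw [← inf_iSup_eq, hU, inf_top_eq]) (fun j => u j ^ d * ores inf_le_right (θ j)) (by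
      intro j l
      simp only [map_mul, map_pow, ores_ores]
      refine key j l _ _ _ (inf_le_left.trans inf_le_left) _ _ ?_ ?_
      · have h1 := congrArg (res L (inf_le_left : (W₀ ⊓ U j) ⊓ (W₀ ⊓ U l) ≤ W₀ ⊓ U j)) (hu j)
        simp only [res_smul, res_res] at h1
        exact h1
      · have h1 := congrArg (res L (inf_le_right : (W₀ ⊓ U j) ⊓ (W₀ ⊓ U l) ≤ W₀ ⊓ U l)) (hu l)
        simp only [res_smul, res_res] at h1
        exact h1)
  refine ⟨g, fun j W hj h₀ t ht => ?_⟩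
  have h1 := congrArg (ores (le_inf h₀ hj : W ≤ W₀ ⊓ U j)) (hg' j)
  rw [ores_ores, map_mul, map_pow, ores_ores] at h1
  refine h1.trans (key j j W hj hj h₀ _ _ ?_ ht)
  have h2 := congrArg (res L (le_inf h₀ hj : W ≤ W₀ ⊓ U j)) (hu j)
  simp only [res_smul, res_res] at h2
  exact h2

theorem eq_of_form {W : C.Opens} {y : Fin 3 → Γ(C, W)} {ξ : Fin 3 → Γ(C, W)} {t : Γ(C, W)} {z : Γ(C, W)}
    {F : MvPolynomial (Fin 3) Γ(T, ⊤)} (hF : F.IsHomogeneous d) (ρ : Γ(T, ⊤) →+* Γ(C, W)) {i : Fin 3}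
    (hy : ∀ i, y i = t * ξ i) (hi : y i = 1) (h : t ^ d * z = MvPolynomial.eval₂ ρ y F) :
    z = MvPolynomial.eval₂ ρ ξ F := by
  have h1 : y = fun i => t * ξ i := funext hy
  rw [h1, eval₂_smul _ _ _ hF] at h
  have h2 : ξ i ^ d * t ^ d = 1 := by
    rw [← mul_pow, mul_comm, ← hy, hi, one_pow]
  have h3 := congrArg (fun a => ξ i ^ d * a) h
  simp only [← mul_assoc, h2, one_mul] at h3
  exact h3

theorem rho_top (y : Fin 3 → Γ(L, ⊤)) (a : Γ(T, ⊤)) : rho f y ⊤ a = ρV f (UV f y ⊤) a := by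
  have h := rho_ores f y ⊤ a
  rwa [ores_refl] at h

theorem ores_ρV {W W' : C.Opens} (h : W' ≤ W) (a : Γ(T, ⊤)) : ores h (ρV f W a) = ρV f W' a := by
  rw [ρV, ρV, RingHom.comp_apply, RingHom.comp_apply, ores_ores]

theorem ores_eval₂ {W W' : C.Opens} (h : W' ≤ W) (ξ : Fin 3 → Γ(C, W)) (F : MvPolynomial (Fin 3) Γ(T, ⊤)) :
    ores h (MvPolynomial.eval₂ (ρV f W) ξ F) = MvPolynomial.eval₂ (ρV f W') (fun i => ores h (ξ i)) F := by
  rw [MvPolynomial.eval₂_comp_left]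
  congr 1
  ext a
  exact ores_ρV h a

theorem aux {j : κ} {y : Fin 3 → Γ(L, ⊤)} {F : MvPolynomial (Fin 3) Γ(T, ⊤)} (hF : F.IsHomogeneous d)
    {g : Γ(C, UV f y ⊤)} {Y : Fin 3 → Γ(C, UV f y ⊤)} {z : Γ(L, ⊤)} (hz : IsGen (res L (le_top : UV f y ⊤ ≤ ⊤) z))
    (hg : ∀ (j : κ) (W : C.Opens) (hj : W ≤ U j) (h₀ : W ≤ UV f y ⊤) (t : Γ(C, W)),
      res L hj (e j) = t • res L h₀ (res L le_top z) → ores h₀ g = t ^ d * ores hj (θ j))
    (h : g = MvPolynomial.eval₂ (rho f y ⊤) Y F) {ξ : Fin 3 → Γ(C, U j)} {i : Fin 3} (hi : Y i = 1)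
    (hY : ∀ i, res L (le_top : UV f y ⊤ ≤ ⊤) (x i) = Y i • res L le_top z)
    (hξ : ∀ i, res L le_top (x i) = ξ i • e j) {W : C.Opens} (hj : W ≤ U j) (h₀ : W ≤ UV f y ⊤) :
    ores hj (θ j) = ores hj (MvPolynomial.eval₂ (ρV f (U j)) ξ F) := by
  obtain ⟨t, ht⟩ := (hz.res h₀).exists_eq (res L hj (e j))
  have h1 := hg j W hj h₀ t ht
  have h2 : rho f y ⊤ = ρV f (UV f y ⊤) := RingHom.ext (rho_top y)
  rw [h, h2, ores_eval₂] at h1
  rw [ores_eval₂]
  refine eq_of_form hF (ρV f W) (y := fun i => ores h₀ (Y i)) (i := i) (t := t) (fun l => ?_) ?_ h1.symm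
  · refine (hz.res h₀).ext ?_
    have h3 := congrArg (res L h₀) (hY l)
    have h4 := congrArg (res L hj) (hξ l)
    simp only [res_smul, res_res] at h3 h4 ht ⊢
    rw [← h3, h4, ht, smul_smul, mul_comm]
  · simp only [hi, map_one]

theorem exists_form (hc : CD c f x) (hT : IsAffineOpen (⊤ : T.Opens)) (hU : ⨆ j, U j = ⊤) (hg : Glues U e d θ)
    (he : ∀ j, IsGen (e j)) : ∃ F : MvPolynomial (Fin 3) Γ(T, ⊤), F.IsHomogeneous d ∧
      ∀ (j : κ) (ξ : Fin 3 → Γ(C, U j)), (∀ i, res L le_top (x i) = ξ i • e j) →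
        θ j = MvPolynomial.eval₂ (ρV f (U j)) ξ F := by
  have z1 : IsGen (res L (le_top : UV f x ⊤ ≤ ⊤) (x 1)) := isGen_x1 inf_le_left
  have z2 : IsGen (res L (le_top : UV f (sx x) ⊤ ≤ ⊤) (x 2)) := isGen_x1 (x := sx x) inf_le_left
  obtain ⟨g₁, hg₁⟩ := exists_fun hU hg he (W₀ := UV f x ⊤) (res L le_top (x 1)) z1
  obtain ⟨g₂, hg₂⟩ := exists_fun hU hg he (W₀ := UV f (sx x) ⊤) (res L le_top (x 2)) z2
  obtain ⟨a, b, h1, h2⟩ := exists_nf_of_glue hc hT d g₁ g₂ (by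
    refine ores_ext (fun j => W12 f x ⊤ ⊓ U j) (fun j => inf_le_left) (by rw [← inf_iSup_eq, hU, inf_top_eq])
      fun j => ?_
    obtain ⟨t, ht⟩ := (z2.res (inf_le_left.trans inf_le_right : W12 f x ⊤ ⊓ U j ≤ UV f (sx x) ⊤)).exists_eq
      (res L inf_le_right (e j))
    have h2 := hg₂ j _ inf_le_right _ t ht
    have h1 := hg₁ j (W12 f x ⊤ ⊓ U j) inf_le_right (inf_le_left.trans inf_le_left)
      (t * ores (inf_le_left.trans (inf_le_left.trans inf_le_left) : W12 f x ⊤ ⊓ U j ≤ gl (x 1)) (cs x)) (by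
        rw [ht, res_res, res_res, res_x2' (inf_le_left.trans (inf_le_left.trans inf_le_left) :
          W12 f x ⊤ ⊓ U j ≤ gl (x 1)), smul_smul])
    simp only [ores_ores, map_mul, map_pow]
    rw [h1, h2]
    ring)
  refine ⟨nf d a b, nf_isHomogeneous _ _ _, fun j ξ hξ => ?_⟩
  refine ores_ext (fun b : Bool => if b then U j ⊓ UV f x ⊤ else U j ⊓ UV f (sx x) ⊤) (fun b => ?_) ?_ fun b => ?_
  · cases b
    · exact inf_le_left
    · exact inf_le_left
  · intro t ht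
    rw [Opens.mem_iSup]
    rcases hc.mem_gl t with h | h
    · exact ⟨true, ht, h, trivial⟩
    · exact ⟨false, ht, h, trivial⟩
  · cases b
    · refine aux (nf_isHomogeneous _ _ _) z2 hg₂ h2 (i := 2) rfl (fun i => ?_) hξ _ inf_le_right
      fin_cases i
      · exact res_x0' (x := sx x) (inf_le_left : UV f (sx x) ⊤ ≤ gl (sx x 1))
      · exact res_x2' (x := sx x) (inf_le_left : UV f (sx x) ⊤ ≤ gl (sx x 1))
      · exact (one_smul _ _).symm
    · refine aux (nf_isHomogeneous _ _ _) z1 hg₁ h1 (i := 1) rfl (fun i => ?_) hξ _ inf_le_right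
      fin_cases i
      · exact res_x0' (x := x) (inf_le_left : UV f x ⊤ ≤ gl (x 1))
      · exact (one_smul _ _).symm
      · exact res_x2' (x := x) (inf_le_left : UV f x ⊤ ≤ gl (x 1))

end

end K385.ConGlue
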