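import Groth.Agent.Fano.K385.ExtHyp
import Groth.Agent.Fano.K385.ConGlue
import Groth.Agent.Fano.K385.ConCoh

/-!
# Unobstructed conics: `H¹(C, m^* T_X) = 0`
-/

set_option autoImplicit false
universe u v

open CategoryTheory CategoryTheory.Limits AlgebraicGeometry TopologicalSpace Opposite

namespace K385.ConJ

open Groth.Agent Groth.Agent.Sga67.Sec Groth.Agent.Dual.H366.ConSec Groth.Agent.Dual.H366.Conormal
open Groth.Agent.Krr.H492 Groth.Agent.Krr.H492.EulerDer Groth.Agent.Krr.H492.EulerLoc Groth.Agent.Krr.H492.EulerGen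
open MvPolynomial K390.PnSec K385.Pairing K385.HypCon
open Groth.Agent.Fdesc.LocGen (IsGen pullSec homOf ofFun ores)
open K54.Euler (ph)
open K745.ConDef

variable {k : Type u} [Field k] {n d : ℕ}

theorem alg_aux {R : Type*} [CommRing R] {p q r a b c : R} (d : ℕ) (hu : IsUnit a) (h1 : p * a ^ d = c)
    (h2 : q * b ^ d = c) (h3 : r * a = b) : p = r ^ d * q := by
  refine (hu.pow d).mul_left_injective ?_
  change p * a ^ d = r ^ d * q * a ^ d
  rw [h1, ← h2, ← h3, mul_pow]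
  ring

/-- Change of charts for the dehomogenizations. -/
theorem g_trans (G : LefPen.Form n k d) (j l : Fin (n + 1)) (W : (Proj (gr n k)).Opens) (hj : W ≤ D j) (hl : W ≤ D l) :
    resO _ hl (g G l) = resO _ hl (y l j (inside l)) ^ d * resO _ hj (g G j) := by
  apply ev_inj
  intro x
  have h1 := K54.Euler.ev_ph l (inside (k := k) l) (r := G.1) (k := d) G.2 ⟨x.1, hl x.2⟩
  have h2 := K54.Euler.ev_ph j (inside (k := k) j) (r := G.1) (k := d) G.2 ⟨x.1, hj x.2⟩
  have h3 := ev_y_mul (m := n) (R := k) (a := l) j (inside (k := k) l) ⟨x.1, hl x.2⟩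
  have h4 := alg_aux d (isUnit_al n k x.1 (inside (k := k) l x.1 (hl x.2))) h1 h2 h3
  have h5 := (ev x).map_mul (resO _ hl (y l j (inside l)) ^ d) (resO _ hj (g G j))
  have h6 := (ev x).map_pow (resO _ hl (y l j (inside l))) d
  refine (h4.trans ?_).trans h5.symm
  exact congrArg (· * ev x (resO _ hj (g G j))) h6.symm

theorem cc_trans (G : LefPen.Form n k d) (j l : Fin (n + 1)) (W : (Proj (gr n k)).Opens) (hj : W ≤ D j) (hl : W ≤ D l) :
    res (HypCon.I G) hl (cc G l) = (resO _ hl (y l j (inside l)) ^ d) • res (HypCon.I G) hj (cc G j) := by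
  refine valS_injective (ii G) W ?_
  rw [map_smul, valS_res, valS_res, valS_cc, valS_cc, g_trans G j l W hj hl]
  rfl

section Cls

variable (G : LefPen.Form n k d) {C : Scheme.{u}} (m : C ⟶ (LefPen.hypIdeal G).subscheme)

theorem cls_trans (j l : Fin (n + 1)) :
    res _ (m.preimage_mono ((ii G).preimage_mono (inf_le_right : D (k := k) j ⊓ D l ≤ D l))) (cls G m l) =
      (resO C (m.preimage_mono ((ii G).preimage_mono (inf_le_right : D (k := k) j ⊓ D l ≤ D l)))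
        (rho (ii G) m (D l) (y l j (inside l))) ^ d) •
      res _ (m.preimage_mono ((ii G).preimage_mono (inf_le_left : D (k := k) j ⊓ D l ≤ D j))) (cls G m j) := by
  have h1 := congrArg (pb (ii G) m (HypCon.I G) (D j ⊓ D l)) (cc_trans G j l (D j ⊓ D l) inf_le_left inf_le_right)
  rw [pb_smul, pb_res, pb_res, map_pow, rho_res] at h1
  exact h1

theorem glues {L : C.Modules} {s : Fin (n + 1) → Γ(L, ⊤)} (hs : GivenBy (m ≫ ii G) L s)
    (θ : (Scheme.Modules.pullback m).obj (Omega.conormal (ii G)) ⟶ Coh.structureModule C)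
    (z : ∀ j, Γ(C, V (ii G) m j)) (hz : ∀ j, appS θ (V (ii G) m j) (cls G m j) = ofFun (z j)) :
    ConGlue.Glues (V (ii G) m) (fun j => Fdesc.LocGen.res L le_top (s j)) d z := by
  intro j l W hj hl t ht
  have hjl : W ≤ m ⁻¹ᵁ (ii G) ⁻¹ᵁ (D (k := k) j ⊓ D l) := fun p hp => ⟨hj hp, hl hp⟩
  have hVl := m.preimage_mono ((ii G).preimage_mono (inf_le_right : D (k := k) j ⊓ D l ≤ D l))
  have hVj := m.preimage_mono ((ii G).preimage_mono (inf_le_left : D (k := k) j ⊓ D l ≤ D j))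
  have h1 := congrArg (appS θ _) (cls_trans G m j l)
  have h2 := (appS_res θ hVl (cls G m l)).symm.trans (h1.trans ((appS θ _).map_smul _ _))
  have h3 : ores hVl (z l) = ores hVl (rho (ii G) m (D l) (y l j (inside l))) ^ d * ores hVj (z j) := by
    have h4 := appS_res θ hVj (cls G m j)
    rw [hz] at h2 h4
    exact h2.trans (congrArg (fun u => _ • u) h4)
  have h5 := congrArg (ores hjl) h3
  simp only [map_mul, map_pow, Fdesc.LocGen.ores_ores] at h5
  refine h5.trans ?_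
  congr 2
  refine ((isGen_x (ii G) m hs l).res hl).ext ?_
  have h6 := congrArg (Fdesc.LocGen.res L hl) (res_x (ii G) m hs l j)
  simp only [Fdesc.LocGen.res_smul, Fdesc.LocGen.res_res] at h6 ht ⊢
  rw [← h6, ht]

theorem rho_cst {Ω : Type u} [CommRing Ω] (q : C ⟶ Spec (CommRingCat.of Ω))
    (a : Spec (CommRingCat.of Ω) ⟶ Spec (CommRingCat.of k)) (hm : m ≫ ii G ≫ K54.Euler.f n k = q ≫ a)
    (j : Fin (n + 1)) (c : k) : rho (ii G) m (D j) (K54.Euler.cst n k (D j) c) =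
      ρV q (V (ii G) m j) (K188.LineDef.kmap a c) := by
  have h1 : rho (ii G) m (D j) (K54.Euler.cst n k (D j) c) = ((m ≫ ii G) ≫ K54.Euler.f n k).appLE ⊤ (V (ii G) m j)
      le_top ((Scheme.ΓSpecIso (CommRingCat.of k)).inv.hom c) := by
    refine (rho_eq_appLE (ii G) m (D j) _).trans ?_
    exact K949.Chart.appLE_appLE (m ≫ ii G) (K54.Euler.f n k) le_top le_rfl le_top _
  rw [h1]
  have h2 : (m ≫ ii G) ≫ K54.Euler.f n k = q ≫ a := (Category.assoc _ _ _).trans hm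
  refine (K949.Chart.appLE_congr' h2 le_top le_top _).trans ?_
  refine (K949.Chart.appLE_appLE q a (le_top : (⊤ : (Spec (CommRingCat.of Ω)).Opens) ≤ a ⁻¹ᵁ ⊤) le_top le_top _).symm.trans ?_
  rw [← K949.Chart.appTop_eq]
  refine (K949.Chart.ores_appLE q (U := (⊤ : (Spec (CommRingCat.of Ω)).Opens)) (le_top : V (ii G) m j ≤ ⊤) le_top
    le_top _).symm.trans ?_
  rw [← K949.Chart.appTop_eq]
  rfl

end Cls

section Msec

variable {T C : Scheme.{u}} {f : C ⟶ T} {L : C.Modules} {x : Fin 3 → Γ(L, ⊤)}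

theorem eval₂_lin3 {A B : Type u} [CommRing A] [CommRing B] (ρ : A →+* B) (ξ : Fin 3 → B) (v : Fin 3 → A) :
    MvPolynomial.eval₂ ρ ξ (lin3 v) = ∑ i, ρ (v i) * ξ i := by
  rw [lin3, ← MvPolynomial.coe_eval₂Hom, map_sum]
  simp

theorem res_msec {W : C.Opens} {e : Γ(L, W)} {ξ : Fin 3 → Γ(C, W)}
    (hξ : ∀ i, Fdesc.LocGen.res L le_top (x i) = ξ i • e) (φ : Fin (n + 1) → Fin 3 → Γ(T, ⊤)) (l : Fin (n + 1)) :
    Fdesc.LocGen.res L le_top (msec f x φ l) = MvPolynomial.eval₂ (ρV f W) ξ (lin3 (φ l)) • e := by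
  rw [msec, map_sum, eval₂_lin3, Finset.sum_smul]
  refine Finset.sum_congr rfl fun i _ => ?_
  rw [Fdesc.LocGen.res_smul, hξ, smul_smul]
  rfl

theorem eval₂_subF {A B R : Type u} [CommRing A] [CommRing B] [CommRing R] (τ : R →+* A) (ρ : A →+* B) (ξ : Fin 3 → B)
    (F : MvPolynomial (Fin (n + 1)) R) (φ : Fin (n + 1) → Fin 3 → A) :
    MvPolynomial.eval₂ ρ ξ (subF τ F φ) =
      MvPolynomial.eval₂ (ρ.comp τ) (fun l => MvPolynomial.eval₂ ρ ξ (lin3 (φ l))) F := by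
  refine (MvPolynomial.hom_eval₂ F (MvPolynomial.C.comp τ) (MvPolynomial.eval₂Hom ρ ξ) (fun l => lin3 (φ l))).trans ?_
  have h1 : (MvPolynomial.eval₂Hom ρ ξ).comp (MvPolynomial.C.comp τ) = ρ.comp τ := by
    ext r
    simp
  rw [h1]
  rfl

end Msec

section Main

variable (G : LefPen.Form n k d) {C : Scheme.{u}} (m : C ⟶ (LefPen.hypIdeal G).subscheme)

theorem rho_ph {Ω : Type u} [CommRing Ω] (q : C ⟶ Spec (CommRingCat.of Ω))
    (a : Spec (CommRingCat.of Ω) ⟶ Spec (CommRingCat.of k)) (hm : m ≫ ii G ≫ K54.Euler.f n k = q ≫ a)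
    {L : C.Modules} {x : Fin 3 → Γ(L, ⊤)} {φ : Fin (n + 1) → Fin 3 → Γ(Spec (CommRingCat.of Ω), ⊤)}
    (hs : GivenBy (m ≫ ii G) L (msec q x φ)) (j : Fin (n + 1)) {ξ : Fin 3 → Γ(C, V (ii G) m j)}
    (hξ : ∀ i, Fdesc.LocGen.res L (le_top : V (ii G) m j ≤ ⊤) (x i) =
      ξ i • Fdesc.LocGen.res L (le_top : V (ii G) m j ≤ ⊤) (msec q x φ j))
    (F : MvPolynomial (Fin (n + 1)) k) :
    rho (ii G) m (D j) (ph (m := n) (R := k) j (inside (k := k) j) F) =
      MvPolynomial.eval₂ (ρV q (V (ii G) m j)) ξ (subF (K188.LineDef.kmap a) F φ) := by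
  rw [eval₂_subF]
  have h1 : (rho (ii G) m (D j)).comp (ph (m := n) (R := k) j (inside (k := k) j)) =
      MvPolynomial.eval₂Hom ((ρV q (V (ii G) m j)).comp (K188.LineDef.kmap a))
        (fun l => MvPolynomial.eval₂ (ρV q (V (ii G) m j)) ξ (lin3 (φ l))) := by
    refine MvPolynomial.ringHom_ext (fun c => ?_) fun l => ?_
    · rw [RingHom.comp_apply, K54.Euler.ph_C, MvPolynomial.eval₂Hom_C]
      exact rho_cst G m q a hm j c
    · rw [RingHom.comp_apply, K54.Euler.ph_X, MvPolynomial.eval₂Hom_X']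
      refine (isGen_x (ii G) m hs j).ext ?_
      rw [← res_x (ii G) m hs j l]
      exact res_msec hξ φ l
  exact congr($h1 F)

/-- Every homomorphism from the conormal sheaf extends. -/
theorem exists_extend' {Ω : Type u} [CommRing Ω] (q : C ⟶ Spec (CommRingCat.of Ω))
    (a : Spec (CommRingCat.of Ω) ⟶ Spec (CommRingCat.of k)) (hm : m ≫ ii G ≫ K54.Euler.f n k = q ≫ a)
    {c : Fin 5 → Γ(Spec (CommRingCat.of Ω), ⊤)} {L : C.Modules} {x : Fin 3 → Γ(L, ⊤)} (hc : K949.Chart.CD c q x)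
    {φ : Fin (n + 1) → Fin 3 → Γ(Spec (CommRingCat.of Ω), ⊤)}
    (hs : GivenBy (m ≫ ii G) L (msec q x φ)) (hu : Unob d (K188.LineDef.kmap a) G.1 c φ)
    (θ : (Scheme.Modules.pullback m).obj (Omega.conormal (ii G)) ⟶ Coh.structureModule C) :
    ∃ ψ : (Scheme.Modules.pullback m).obj ((Scheme.Modules.pullback (ii G)).obj
        (Omega.sheaf (K54.Euler.f n k))) ⟶ Coh.structureModule C,
        (Scheme.Modules.pullback m).map (dMap (ii G) (K54.Euler.f n k)) ≫ ψ = θ := by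
  obtain ⟨z, hz⟩ : ∃ z : ∀ j, Γ(C, V (ii G) m j), ∀ j, appS θ (V (ii G) m j) (cls G m j) = ofFun (z j) :=
    ⟨fun j => appS θ (V (ii G) m j) (cls G m j), fun _ => rfl⟩
  obtain ⟨F, hF, hFz⟩ := ConGlue.exists_form hc (isAffineOpen_top _) (iSup_V (ii G) m) (glues G m hs θ z hz)
    (fun j => isGen_x (ii G) m hs j)
  obtain ⟨v, H, hFe⟩ := hu F hF
  choose ξ hξ using fun (j : Fin (n + 1)) (i : Fin 3) =>
    (isGen_x (ii G) m hs j).exists_eq (Fdesc.LocGen.res L (le_top : V (ii G) m j ≤ ⊤) (x i))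
  refine exists_extend G m hs θ (fun l => msec q x v l)
    (fun j l => MvPolynomial.eval₂ (ρV q (V (ii G) m j)) (ξ j) (lin3 (v l))) (fun j l => res_msec (hξ j) v l) fun j => ?_
  rw [hz, hFz j (ξ j) (hξ j)]
  congr 1
  have h1 : MvPolynomial.eval₂ (ρV q (V (ii G) m j)) (ξ j) (qf c) = 0 :=
    hc.van (V (ii G) m j) _ (ξ j) (isGen_x (ii G) m hs j) (hξ j)
  have h2 : ∀ l, rho (ii G) m (D j) (dg G l j) =
      MvPolynomial.eval₂ (ρV q (V (ii G) m j)) (ξ j) (dG (K188.LineDef.kmap a) G.1 φ l) :=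
    fun l => rho_ph G m q a hm hs j (hξ j) _
  simp only [h2]
  rw [hFe, ← MvPolynomial.coe_eval₂Hom] at *
  rw [map_add, map_mul, map_sum, h1, mul_zero, add_zero]
  refine Finset.sum_congr rfl fun l _ => ?_
  rw [map_mul]

end Main

open W4swstmapratcurves

/-- Node I1: vanishing of the obstruction space. -/
theorem subsingleton_HH' (Ω : Type u) [CommRing Ω] {C : Scheme.{u}}
    (q : C ⟶ Spec (CommRingCat.of Ω)) (c : Fin 5 → Γ(Spec (CommRingCat.of Ω), ⊤)) {L : C.Modules}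
    (x : Fin 3 → Γ(L, ⊤)) (h : IsCon c q L x) (a : Spec (CommRingCat.of Ω) ⟶ Spec (CommRingCat.of k))
    (G : LefPen.Form n k d) (hG : Smooth (hypOver G).hom) (hG0 : G ≠ 0) (m : C ⟶ (hypOver G).left)
    (hm : m ≫ (hypOver G).hom = q ≫ a) (φ : Fin (n + 1) → Fin 3 → Γ(Spec (CommRingCat.of Ω), ⊤))
    (hs : GivenBy (m ≫ (LefPen.hypIdeal G).subschemeι) L (msec q x φ))
    (hu : Unob d (K188.LineDef.kmap a) G.1 c φ) :
    Subsingleton (Coh.HH C ((Scheme.Modules.pullback m).obj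
      (RefHull.dual (Omega.sheaf (hypOver G).hom))) 1) := by
  have hc := K949.ConB.cd_of_isCon h
  let _ : C.Over (Spec (CommRingCat.of Ω)) := ⟨q⟩
  have h1 : Subsingleton (Coh.HH C L 1) :=
    ConCoh.subsingleton_HH_one hc (isAffineOpen_top _) (Ega2.QCohLocal.isQCoh_of_isFinLocFree
      (Ega2.QCohLocal.isFinLocFree_of_rank (Ega2.QCohLocal.isFinLocFreeOfRank_one_iff.2 hc.inv)))
  have h2 : Subsingleton (Coh.HH C (Coh.structureModule C) 2) :=
    ConCoh.subsingleton_HH_two_le hc (isAffineOpen_top _) _ (PerfA.QCohSerre.isQCoh_unit C) 2 le_rfl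
  exact ExtHyp.subsingleton_HH_of G m hs Ω hG hG0 h1 h2 fun θ => exists_extend' G m q a hm hc hs hu θ

/-- Node I1: vanishing of the obstruction space. -/
theorem subsingleton_HH [IsAlgClosed k] [CharZero k] (Ω : Type u) [Field Ω] [IsAlgClosed Ω] {C : Scheme.{u}}
    (q : C ⟶ Spec (CommRingCat.of Ω)) (c : Fin 5 → Γ(Spec (CommRingCat.of Ω), ⊤)) {L : C.Modules}
    (x : Fin 3 → Γ(L, ⊤)) (h : IsCon c q L x) (a : Spec (CommRingCat.of Ω) ⟶ Spec (CommRingCat.of k))
    (G : LefPen.Form n k d) (hG : Smooth (hypOver G).hom) (hG0 : G ≠ 0) (m : C ⟶ (hypOver G).left)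
    (hm : m ≫ (hypOver G).hom = q ≫ a) (φ : Fin (n + 1) → Fin 3 → Γ(Spec (CommRingCat.of Ω), ⊤))
    (hs : GivenBy (m ≫ (LefPen.hypIdeal G).subschemeι) L (msec q x φ))
    (hu : Unob d (K188.LineDef.kmap a) G.1 c φ) :
    Subsingleton (Coh.HH C ((Scheme.Modules.pullback m).obj
      (RefHull.dual (Omega.sheaf (hypOver G).hom))) 1) :=
  subsingleton_HH' Ω q c x h a G hG hG0 m hm φ hs hu

end K385.ConJ
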