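import Groth.Agent.MorSch.K921.PullDual
import Groth.Agent.CurvSt.K903.ExtTwist
import Groth.Agent.Krr.H496.PullK0
import Groth.Agent.CurvesA.HHMap
import Groth.Agent.Fga.HShift
import Groth.Agent.PerfB.FlatPull

/-!
# Vanishing of `Ext¹` from short exact sequences

* `subsingleton_of_surj`: `0 → A → B → D → 0` exact, `Hom(B, O) → Hom(A, O)` onto, `Ext¹(B, O) = 0`: `Ext¹(D, O) = 0`;
* `subsingleton_left`: `Ext¹(B, O) = 0`, `Ext²(D, O) = 0`: `Ext¹(A, O) = 0`;
* `subsingleton_map_biproduct`: the image of a finite biproduct under an additive functor.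
-/

set_option autoImplicit false
universe w v v' u u'

open CategoryTheory CategoryTheory.Limits CategoryTheory.Abelian AlgebraicGeometry

namespace K385.ExtVan

section Abstract

variable {𝒜 : Type u} [Category.{v} 𝒜] [Abelian 𝒜] [HasExt.{w} 𝒜]

theorem subsingleton_of_surj {S : ShortComplex 𝒜} (hS : S.ShortExact) (O : 𝒜)
    (h : ∀ θ : S.X₁ ⟶ O, ∃ ψ : S.X₂ ⟶ O, S.f ≫ ψ = θ) (h2 : Subsingleton (Ext.{w} S.X₂ O 1)) :
    Subsingleton (Ext.{w} S.X₃ O 1) := by
  refine subsingleton_of_forall_eq 0 fun x => ?_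
  obtain ⟨y, rfl⟩ := Ext.contravariant_sequence_exact₃ hS O x (Subsingleton.elim _ _) (n₀ := 0) rfl
  obtain ⟨θ, rfl⟩ := (Ext.mk₀_bijective S.X₁ O).2 y
  obtain ⟨ψ, rfl⟩ := h θ
  rw [← Ext.mk₀_comp_mk₀, hS.extClass_comp_assoc]

theorem subsingleton_left {S : ShortComplex 𝒜} (hS : S.ShortExact) (O : 𝒜)
    (h2 : Subsingleton (Ext.{w} S.X₂ O 1)) (h3 : Subsingleton (Ext.{w} S.X₃ O 2)) :
    Subsingleton (Ext.{w} S.X₁ O 1) := by
  refine subsingleton_of_forall_eq 0 fun x => ?_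
  obtain ⟨y, rfl⟩ := Ext.contravariant_sequence_exact₁ hS O x (n₁ := 2) rfl (Subsingleton.elim _ _)
  rw [Subsingleton.elim y 0, Ext.comp_zero]

theorem subsingleton_of_iso {A B : 𝒜} (e : A ≅ B) (O : 𝒜) (n : ℕ) (h : Subsingleton (Ext.{w} A O n)) :
    Subsingleton (Ext.{w} B O n) := by
  refine subsingleton_of_forall_eq 0 fun x => ?_
  have h1 : (Ext.mk₀ e.inv).comp ((Ext.mk₀ e.hom).comp x (zero_add n)) (zero_add n) = x := by simp
  rw [← h1, Subsingleton.elim ((Ext.mk₀ e.hom).comp x (zero_add n)) 0, Ext.comp_zero]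

attribute [local instance] Abelian.hasFiniteBiproducts

theorem subsingleton_map_biproduct {ℬ : Type u'} [Category.{v'} ℬ] [Abelian ℬ] (F : ℬ ⥤ 𝒜) [F.Additive]
    {J : Type} [Fintype J] (M : J → ℬ) (O : 𝒜) (n : ℕ) (h : ∀ j, Subsingleton (Ext.{w} (F.obj (M j)) O n)) :
    Subsingleton (Ext.{w} (F.obj (⨁ M)) O n) := by
  refine subsingleton_of_forall_eq 0 fun x => ?_
  have h1 : 𝟙 (F.obj (⨁ M)) = ∑ j, F.map (biproduct.π M j) ≫ F.map (biproduct.ι M j) := by
    rw [← F.map_id, ← biproduct.total, F.map_sum]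
    simp only [Functor.map_comp]
  have h2 : (Ext.mk₀ (𝟙 (F.obj (⨁ M)))).comp x (zero_add n) = x := by simp
  rw [← h2, h1, Ext.mk₀_sum, Ext.sum_comp]
  refine Finset.sum_eq_zero fun j _ => ?_
  have := h j
  rw [← Ext.mk₀_comp_mk₀_assoc, Subsingleton.elim ((Ext.mk₀ (F.map (biproduct.ι M j))).comp x (zero_add n)) 0,
    Ext.comp_zero]

end Abstract

section Geo

variable {X Y : Scheme.{u}} [HasExt.{w} X.Modules]

theorem subsingleton_ext_iff (K : Type u) [CommRing K] [X.Over (Spec (CommRingCat.of K))] {E : X.Modules}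
    (hE : FlatMod.IsFinLocFree E) (G : X.Modules) (q : ℕ) :
    Subsingleton (Ext.{w} E G q) ↔ Subsingleton (Coh.HH X (Groth.Agent.CohqB.HomSheaf.homSheaf E G) q) :=
  (K903.ExtVB.extVB K hE G q).toEquiv.subsingleton_congr

/-- `Ext^q(A, O) = 0` if `H^q(I) = 0` for an inverse `I` of `A`. -/
theorem subsingleton_ext_of_inverse (K : Type u) [CommRing K] [X.Over (Spec (CommRingCat.of K))] {A I : X.Modules}
    (hA : FlatMod.IsFinLocFree A) (e : CohB1.tensorMod A I ≅ Coh.structureModule X) (q : ℕ)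
    (h : Subsingleton (Coh.HH X I q)) : Subsingleton (Ext.{w} A (Coh.structureModule X) q) := by
  obtain ⟨e'⟩ := K903.ExtTwist.nonempty_iso_inverse e
  rw [subsingleton_ext_iff K hA]
  exact Groth.Agent.Fga.HShift.subsingleton_of_iso e'.symm q h

theorem subsingleton_ext_structure (K : Type u) [CommRing K] [X.Over (Spec (CommRingCat.of K))] {B : X.Modules}
    (e : B ≅ Coh.structureModule X) (q : ℕ) (h : Subsingleton (Coh.HH X (Coh.structureModule X) q)) :
    Subsingleton (Ext.{w} B (Coh.structureModule X) q) := by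
  refine subsingleton_of_iso e.symm _ _ ?_
  exact (K903.ExtVB.hhEquiv K (Coh.structureModule X) q).toEquiv.subsingleton_congr.2 h

/-- `H^q` of the pull back of the dual. -/
theorem subsingleton_pull_dual (K : Type u) [CommRing K] [X.Over (Spec (CommRingCat.of K))] (f : X ⟶ Y) {F : Y.Modules}
    (hF : FlatMod.IsFinLocFree F) (q : ℕ)
    (h : Subsingleton (Ext.{w} ((Scheme.Modules.pullback f).obj F) (Coh.structureModule X) q)) :
    Subsingleton (Coh.HH X ((Scheme.Modules.pullback f).obj (RefHull.dual F)) q) := by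
  obtain ⟨e⟩ := K921.PullDual.nonempty_pullback_dual f hF
  rw [subsingleton_ext_iff K (Groth.Agent.PerfB.FlatPull.isFinLocFree_pullback f hF)] at h
  exact Groth.Agent.Fga.HShift.subsingleton_of_iso (e ≪≫ K476.HomSh6.cmpIso _ _).symm q h

end Geo

end K385.ExtVan
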