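import Groth.Agent.Fano.K385.HypKap
import Groth.Agent.Fano.K385.ExtVan
import Groth.Agent.LefPen.K568.HypIdMod
import Groth.Agent.Coherent.K54.HodgePn
import Groth.Agent.Vancyc.H878.OmegaRank
import Groth.Agent.Flat2B.SmoothGeom
import Groth.Agent.Sga5.ProjReg
import Groth.Agent.PerfB.FibreConc

/-!
# `H¹` of the pull back of the tangent sheaf of a smooth hypersurface

`subsingleton_HH_of`: `m : C ⟶ X = V_+(G)`, `(m ≫ i)^* O(1) = L`, `H¹(C, L) = 0`, `H²(C, O_C) = 0`, every
`m^* C_{X/P} ⟶ O_C` extends to `m^* i^* Ω_P`: then `H¹(C, m^* T_X) = 0`.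
-/

set_option autoImplicit false
universe w u

open CategoryTheory CategoryTheory.Limits CategoryTheory.Abelian AlgebraicGeometry

namespace K385.ExtHyp

open Groth.Agent Groth.Agent.Dual.H366.ConSec Groth.Agent.Dual.H366.Conormal K390.PnSec K385.HypCon K385.Pairing
open Groth.Agent.Krr.H492

variable {k : Type u} [Field k] {n d : ℕ} (G : LefPen.Form n k d)

instance : Smooth (K54.Euler.f n k) := inferInstanceAs (Smooth (CohB1.ProjSpace.toSpec n k))

theorem rank_of_iso {X : Scheme.{u}} {M N : X.Modules} {r : ℕ} (e : M ≅ N)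
    (h : FlatMod.IsFinLocFreeOfRank r M) : FlatMod.IsFinLocFreeOfRank r N := by
  intro x
  obtain ⟨U, hxU, ⟨i⟩⟩ := h x
  exact ⟨U, hxU, ⟨(Scheme.Modules.restrictFunctor U.ι).mapIso e.symm ≪≫ i⟩⟩

theorem nonempty_conormal' (hG0 : G ≠ 0) : Nonempty (Omega.conormal (LefPen.hypIdeal G).subschemeι ≅
    (Scheme.Modules.pullback (LefPen.hypIdeal G).subschemeι).obj (Twist.twistProjSpace n k (-(d : ℤ)))) := by
  obtain ⟨e'⟩ := K568.HypIdMod.nonempty_iso G hG0
  have h : (LefPen.hypIdeal G).subschemeι.ker = LefPen.hypIdeal G := Scheme.IdealSheafData.ker_subschemeι _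
  exact ⟨(Scheme.Modules.pullback _).mapIso (eqToIso (by rw [h]) ≪≫ e')⟩

theorem rank_conormal (hG0 : G ≠ 0) : FlatMod.IsFinLocFreeOfRank 1 (Omega.conormal (ii G)) := by
  obtain ⟨e⟩ := nonempty_conormal' G hG0
  exact (rank_of_iso e.symm
    (PerfB.FibreConc.isFinLocFreeOfRank_pullback _ (Ega2.QCohLocal.isFinLocFreeOfRank_one_iff.2
      (Ega3B.ProjFrame.isInvertible_twistProjSpace n k (-(d : ℤ))))))

theorem shortExact_con (hG0 : G ≠ 0) (hG : Smooth (ii G ≫ K54.Euler.f n k)) :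
    (K903.ConSeq.seq (ii G) (K54.Euler.f n k)).ShortExact := by
  have := Flat2B.SmoothGeom.isReduced_of_smooth (ii G ≫ K54.Euler.f n k)
  refine K903.ConSeq.shortExact_seq (ii G) (K54.Euler.f n k) (rank_conormal G hG0) (K54.HodgePn.rank_omega n k) ?_
  intro x hx
  rw [Scheme.Hom.smoothLocus_eq_top] at hx
  exact (hx trivial).elim

section

variable {C : Scheme.{u}} (m : C ⟶ (LefPen.hypIdeal G).subscheme) {L : C.Modules} {x : Fin (n + 1) → Γ(L, ⊤)}
  (hx : GivenBy (m ≫ ii G) L x)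

/-- The pull back functor from projective space. -/
noncomputable abbrev PB : (CohB1.ProjSpace n k).Modules ⥤ C.Modules :=
  Scheme.Modules.pullback (ii G) ⋙ Scheme.Modules.pullback m

include hx in
theorem nonempty_tensor : Nonempty (CohB1.tensorMod ((PB G m).obj (Twist.twistProjSpace n k (-1))) L ≅
    Coh.structureModule C) := by
  obtain ⟨τ, -⟩ := hx
  obtain ⟨e0⟩ := Ega2.TwistInv.nonempty_unit_iso (CohB1.polyGrading n k)
  obtain ⟨e1⟩ := Ega3B.PullTensor.nonempty_pullUnitIso (m ≫ ii G)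
  have h1 := Ega2.TwistInv.isIso_mulHom (Ega3B.ProjFrame.coveredByOne n k) (show (-1 : ℤ) + 1 = 0 by norm_num)
  exact ⟨Ega2.Tens.mapTIso ((Scheme.Modules.pullbackComp m (ii G)).app _) τ.symm ≪≫
    (Ega3B.PullTensor.pullTensorIso (m ≫ ii G) (Ega3B.ProjFrame.isInvertible_twistProjSpace n k (-1))
      (Ega3B.ProjFrame.isInvertible_twistProjSpace n k 1)).symm ≪≫
    (Scheme.Modules.pullback (m ≫ ii G)).mapIso (@asIso _ _ _ _ _ h1 ≪≫ e0.symm) ≪≫ e1⟩

include hx in
/-- `Ext¹(m^* i^* Ω_P, O_C) = 0`. -/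
theorem subsingleton_ext_omega [HasExt.{w} C.Modules] (K : Type u) [CommRing K] [C.Over (Spec (CommRingCat.of K))]
    (h1 : Subsingleton (Coh.HH C L 1)) (h2 : Subsingleton (Coh.HH C (Coh.structureModule C) 2)) :
    Subsingleton (Ext.{w} ((PB G m).obj (Omega.sheaf (K54.Euler.f n k))) (Coh.structureModule C) 1) := by
  have hE := K54.Euler.shortExact n k
  have hE1 := Krr.H496.PullK0.shortExact_pullback_of_isFinLocFree (ii G) hE
    (Ega2.QCohLocal.isFinLocFree_of_rank (K54.HodgePn.rank_one n k 0))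
  have hE2 := Krr.H496.PullK0.shortExact_pullback_of_isFinLocFree m hE1
    (PerfB.FlatPull.isFinLocFree_pullback (ii G) (Ega2.QCohLocal.isFinLocFree_of_rank (K54.HodgePn.rank_one n k 0)))
  obtain ⟨e⟩ := nonempty_tensor G m hx
  obtain ⟨e0⟩ := Ega2.TwistInv.nonempty_unit_iso (CohB1.polyGrading n k)
  obtain ⟨e1⟩ := Ega3B.PullTensor.nonempty_pullUnitIso (m ≫ ii G)
  have a1 : (Scheme.Modules.pullback (ii G)).Additive :=
    (Scheme.Modules.pullbackPushforwardAdjunction (ii G)).left_adjoint_additive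
  have a2 : (Scheme.Modules.pullback m).Additive :=
    (Scheme.Modules.pullbackPushforwardAdjunction m).left_adjoint_additive
  have a3 : (PB G m).Additive := inferInstanceAs (Scheme.Modules.pullback (ii G) ⋙ Scheme.Modules.pullback m).Additive
  refine ExtVan.subsingleton_left hE2 _ ?_ ?_
  · refine ExtVan.subsingleton_map_biproduct (PB G m) (fun _ : Fin (n + 1) => K54.Euler.L n k) _ 1 fun _ => ?_
    refine ExtVan.subsingleton_ext_of_inverse K ?_ e 1 h1
    exact PerfB.FlatPull.isFinLocFree_pullback m (PerfB.FlatPull.isFinLocFree_pullback (ii G)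
      (Ega2.QCohLocal.isFinLocFree_of_rank (K54.HodgePn.rank_one n k (-1))))
  · refine ExtVan.subsingleton_ext_structure K ?_ 2 h2
    exact (Scheme.Modules.pullbackComp m (ii G)).app _ ≪≫
      (Scheme.Modules.pullback (m ≫ ii G)).mapIso e0.symm ≪≫ e1

include hx in
theorem subsingleton_HH_of (K : Type u) [CommRing K] [C.Over (Spec (CommRingCat.of K))]
    (hG : Smooth (ii G ≫ K54.Euler.f n k)) (hG0 : G ≠ 0)
    (h1 : Subsingleton (Coh.HH C L 1)) (h2 : Subsingleton (Coh.HH C (Coh.structureModule C) 2))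
    (hθ : ∀ θ : (Scheme.Modules.pullback m).obj (Omega.conormal (ii G)) ⟶ Coh.structureModule C,
      ∃ ψ : (Scheme.Modules.pullback m).obj ((Scheme.Modules.pullback (ii G)).obj
        (Omega.sheaf (K54.Euler.f n k))) ⟶ Coh.structureModule C,
        (Scheme.Modules.pullback m).map (dMap (ii G) (K54.Euler.f n k)) ≫ ψ = θ) :
    Subsingleton (Coh.HH C ((Scheme.Modules.pullback m).obj
      (RefHull.dual (Omega.sheaf (ii G ≫ K54.Euler.f n k)))) 1) := by
  let _ := HasExt.standard C.Modules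
  have hΩ : FlatMod.IsFinLocFree (Omega.sheaf (ii G ≫ K54.Euler.f n k)) :=
    Vancyc.H878.OmegaRank.isFinLocFree_omega _
  have hE := Krr.H496.PullK0.shortExact_pullback_of_isFinLocFree m (shortExact_con G hG0 hG) hΩ
  refine ExtVan.subsingleton_pull_dual K m hΩ 1 ?_
  exact ExtVan.subsingleton_of_surj hE (Coh.structureModule C) hθ (subsingleton_ext_omega G m hx K h1 h2)

end

end K385.ExtHyp
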