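import Groth.Agent.Sga67.Sec
import Groth.Agent.Fdesc.LocGenPullback

/-!
# Homomorphisms of modules from local generators

`exists_hom`: a homomorphism from a module with local generators `e_j` with prescribed values `n_j`.
-/

set_option autoImplicit false
universe u v
open CategoryTheory CategoryTheory.Limits AlgebraicGeometry TopologicalSpace Opposite

namespace K385.GenHom

open Groth.Agent.Sga67.Sec
open Groth.Agent.Fdesc.LocGen (IsGen)

variable {Y : Scheme.{u}} {ι : Type v} (U : ι → Y.Opens)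

/-- Open subsets contained in one of the `U j`. -/
structure Idx where
  /-- the index -/
  j : ι
  /-- the open subset -/
  V : Y.Opens
  /-- the inclusion -/
  le : V ≤ U j

theorem isBasis_idx (hU : ⨆ j, U j = ⊤) : Opens.IsBasis (Set.range (fun i : Idx U => i.V)) := by
  rw [Opens.isBasis_iff_nbhd]
  intro W x hx
  have h1 : x ∈ ⨆ j, U j := by rw [hU]; trivial
  obtain ⟨j, hj⟩ := Opens.mem_iSup.1 h1
  exact ⟨W ⊓ U j, ⟨⟨j, W ⊓ U j, inf_le_right⟩, rfl⟩, ⟨hx, hj⟩, inf_le_left⟩

variable {U} (M N : Y.Modules) (e : ∀ j, Sec M (U j)) (he : ∀ j, IsGen (M := M) (U := U j) (e j))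

/-- Coordinates with respect to a generator. -/
noncomputable def co (i : Idx U) : Γ(Y, i.V) ≃ₗ[Γ(Y, i.V)] Sec M i.V :=
  LinearEquiv.ofBijective (LinearMap.toSpanSingleton Γ(Y, i.V) (Sec M i.V) (res M i.le (e i.j)))
    (he i.j i.V i.le)

theorem co_apply (i : Idx U) (a : Γ(Y, i.V)) : co M e he i a = a • res M i.le (e i.j) := rfl

/-- The homomorphism over a small open subset. -/
noncomputable def ph (n : ∀ j, Sec N (U j)) (i : Idx U) : Sec M i.V →ₗ[Γ(Y, i.V)] Sec N i.V :=
  (LinearMap.toSpanSingleton Γ(Y, i.V) (Sec N i.V) (res N i.le (n i.j))).comp (co M e he i).symm.toLinearMap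

theorem ph_co (n : ∀ j, Sec N (U j)) (i : Idx U) (a : Γ(Y, i.V)) :
    ph M N e he n i (co M e he i a) = a • res N i.le (n i.j) := by
  rw [ph, LinearMap.comp_apply, LinearEquiv.coe_coe, LinearEquiv.symm_apply_apply]
  rfl

include he in
theorem exists_hom (hU : ⨆ j, U j = ⊤) (n : ∀ j, Sec N (U j))
    (h : ∀ (j l : ι) (V : Y.Opens) (hj : V ≤ U j) (hl : V ≤ U l) (c : Γ(Y, V)),
      res M hj (e j) = c • res M hl (e l) → res N hj (n j) = c • res N hl (n l)) :
    ∃ φ : M ⟶ N, ∀ j, appS φ (U j) (e j) = n j := by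
  obtain ⟨φ, hφ⟩ := exists_hom_of_basis' (isBasis_idx U hU) M N (ph M N e he n) (by
      intro i i' hii s
      obtain ⟨a, rfl⟩ := (co M e he i).surjective s
      obtain ⟨c, hc⟩ := (co M e he i').surjective (res M (hii.trans i.le) (e i.j))
      have h1 : res M hii (co M e he i a) = co M e he i' (resO Y hii a * c) := by
        rw [co_apply, res_smul, res_res, ← hc, ← smul_eq_mul, map_smul]
      rw [co_apply] at hc
      have h2 := h i.j i'.j i'.V (hii.trans i.le) i'.le c hc.symm
      rw [h1, ph_co, ph_co, res_smul, res_res, mul_smul, h2])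
  refine ⟨φ, fun j => ?_⟩
  have h3 := hφ ⟨j, U j, le_rfl⟩ (e j)
  have h4 : e j = co M e he ⟨j, U j, le_rfl⟩ 1 := by
    rw [co_apply, one_smul, res_self]
  refine h3.trans ?_
  refine (congrArg (ph M N e he n ⟨j, U j, le_rfl⟩) h4).trans ?_
  rw [ph_co, one_smul, res_self]

end K385.GenHom
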