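import Groth.Agent.Fano.K385.Sigma
import Groth.Agent.Lefpen.H705.HypIdeal
import Groth.Agent.CurvSt.K903.ConSeq
import Groth.Agent.OmegaSh.K583.ConMap

/-!
# Homomorphisms from the conormal sheaf of a hypersurface, in terms of the partial derivatives of the equation
-/

set_option autoImplicit false
universe u
open CategoryTheory CategoryTheory.Limits AlgebraicGeometry TopologicalSpace Opposite

namespace K385.HypCon

open Groth.Agent Groth.Agent.Sga67.Sec Groth.Agent.Dual.H366.ConSec Groth.Agent.Dual.H366.Conormal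
open Groth.Agent.Krr.H492 Groth.Agent.Krr.H492.EulerDer Groth.Agent.Krr.H492.EulerLoc Groth.Agent.Krr.H492.EulerGen
open Groth.Agent.Krr.H492.EulerMap (δ δ_mul)
open MvPolynomial K390.PnSec K385.Pairing
open Twist (Loc)
open Groth.Agent.Fdesc.LocGen (IsGen pullSec homOf ofFun)
open K54.Euler (ph)

variable {k : Type u} [Field k] {n d : ℕ} (G : LefPen.Form n k d)

/-- The dehomogenization. -/
noncomputable abbrev g (j : Fin (n + 1)) : Γ(Proj (gr n k), D (k := k) j) := ph j (inside j) G.1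

theorem g_eq (j : Fin (n + 1)) : g G j = LefPen.dehom G j := by
  apply ev_inj
  intro x
  have h1 := K54.Euler.ev_ph j (inside (k := k) j) (r := G.1) (k := d) G.2 x
  have h2 : ev x (LefPen.dehom G j : Γ(Proj (gr n k), D (k := k) j)) = (Localization.mk G.1
    ⟨MvPolynomial.X j ^ d, Groth.Agent.Lefpen.H705.HypIdeal.pow_mem_primeCompl j x d⟩ : Loc (gr n k) x.1) :=
    Groth.Agent.Lefpen.H705.HypIdeal.dehom_val G j x
  have h3 : ev x (LefPen.dehom G j : Γ(Proj (gr n k), D (k := k) j)) * al n k x.1 (X j) ^ d = al n k x.1 G.1 := by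
    rw [h2, ← map_pow]
    exact mk_mul_al n k x.1 G.1 _
  exact ((isUnit_al n k x.1 (inside (k := k) j x.1 x.2)).pow d).mul_left_injective (h1.trans h3.symm)

/-- The inclusion of the hypersurface. -/
noncomputable def ii : (LefPen.hypIdeal G).subscheme ⟶ Proj (gr n k) := (LefPen.hypIdeal G).subschemeι

instance : IsClosedImmersion (ii G) := inferInstanceAs (IsClosedImmersion (LefPen.hypIdeal G).subschemeι)

theorem app_eq_zero_iff_span (j : Fin (n + 1)) (W : (Proj (gr n k)).affineOpens) (hW : W.1 ≤ D j)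
    (c : Γ(Proj (gr n k), W.1)) : (ii G).app W.1 c = 0 ↔ ∃ a, c = a * resO _ hW (g G j) := by
  have h1 := Groth.Agent.Lefpen.H705.HypIdeal.hypIdeal_ideal_of_le G j W hW
  have h3 := (LefPen.hypIdeal G).ker_subschemeι_app W
  have h4 : resO _ hW (g G j) = Fdesc.LocGen.ores hW (LefPen.dehom G j) := congrArg (Fdesc.LocGen.ores hW) (g_eq G j)
  constructor
  · intro h
    obtain ⟨a, ha⟩ := Ideal.mem_span_singleton'.1 (h1.le (h3.le h))
    exact ⟨a, by rw [h4]; exact ha.symm⟩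
  · rintro ⟨a, ha⟩
    rw [h4] at ha
    exact h3.ge (h1.ge (Ideal.mem_span_singleton'.2 ⟨a, ha.symm⟩))

theorem app_g (j : Fin (n + 1)) : (ii G).app (D j) (g G j) = 0 :=
  (app_eq_zero_iff_span G j ⟨D j, Groth.Agent.Lefpen.H705.HypIdeal.isAffineOpen_chart j⟩ le_rfl _).2
    ⟨1, by rw [one_mul, resO_self]⟩

/-- The ideal module. -/
noncomputable abbrev I : (Proj (gr n k)).Modules := ClSub.idealMod (ii G).ker

/-- The generator of the ideal. -/
noncomputable def cc (j : Fin (n + 1)) : Sec (I G) (D j) :=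
  ((app_eq_zero_iffS (ii G) (D j) (g G j)).1 (app_g G j)).choose

theorem valS_cc (j : Fin (n + 1)) : valS (ii G) (D j) (cc G j) = g G j :=
  ((app_eq_zero_iffS (ii G) (D j) (g G j)).1 (app_g G j)).choose_spec

theorem exists_eq_smul_cc (j : Fin (n + 1)) (W : (Proj (gr n k)).Opens) (hW : IsAffineOpen W) (h : W ≤ D j)
    (c : Sec (I G) W) : ∃ a : Γ(Proj (gr n k), W), c = a • res _ h (cc G j) := by
  have h1 : (ii G).app W (valS (ii G) W c) = 0 := (app_eq_zero_iffS (ii G) W _).2 ⟨c, rfl⟩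
  obtain ⟨a, ha⟩ := (app_eq_zero_iff_span G j ⟨W, hW⟩ h _).1 h1
  refine ⟨a, valS_injective (ii G) W ?_⟩
  rw [map_smul, valS_res, valS_cc, ha]
  rfl

section Ext

variable {C : Scheme.{u}} (m : C ⟶ (LefPen.hypIdeal G).subscheme)

/-- The class of the equation. -/
noncomputable abbrev cls (j : Fin (n + 1)) :
    Sec ((Scheme.Modules.pullback m).obj (Omega.conormal (ii G))) (V (ii G) m j) :=
  pb (ii G) m (I G) (D j) (cc G j)

theorem con_hom_ext {N : C.Modules} {α β : (Scheme.Modules.pullback m).obj (Omega.conormal (ii G)) ⟶ N}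
    (h : ∀ j, appS α (V (ii G) m j) (cls G m j) = appS β (V (ii G) m j) (cls G m j)) : α = β := by
  have key : ∀ (U : (Proj (gr n k)).Opens) (s : Sec (I G) U), appS α (m ⁻¹ᵁ (ii G) ⁻¹ᵁ U) (pb (ii G) m (I G) U s) =
      appS β (m ⁻¹ᵁ (ii G) ⁻¹ᵁ U) (pb (ii G) m (I G) U s) := by
    intro U s
    apply eq_of_locally
    intro x hx
    obtain ⟨j, hj⟩ := Groth.Agent.Ega2.H295.PnCoord.exists_mem (m ≫ ii G) x
    have hj' : (m ≫ (ii G)) x ∈ U ⊓ D j := ⟨hx, hj⟩
    obtain ⟨W, hW, hxW, hWU⟩ := Opens.isBasis_iff_nbhd.1 (Proj (gr n k)).isBasis_affineOpens hj'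
    have hU : W ≤ U := hWU.trans inf_le_left
    have hD : W ≤ D j := hWU.trans inf_le_right
    refine ⟨m ⁻¹ᵁ (ii G) ⁻¹ᵁ W, m.preimage_mono ((ii G).preimage_mono hU), hxW, ?_⟩
    obtain ⟨a, ha⟩ := exists_eq_smul_cc G j W hW hD (res _ hU s)
    have h2 : ∀ γ : (Scheme.Modules.pullback m).obj (Omega.conormal (ii G)) ⟶ N,
        res N (m.preimage_mono ((ii G).preimage_mono hU)) (appS γ (m ⁻¹ᵁ (ii G) ⁻¹ᵁ U) (pb (ii G) m (I G) U s)) =
        rho (ii G) m W a • res N (m.preimage_mono ((ii G).preimage_mono hD)) (appS γ (V (ii G) m j) (cls G m j)) := by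
      intro γ
      have h3 := pb_res (ii G) m (I G) hU s
      have h4 := pb_res (ii G) m (I G) hD (cc G j)
      rw [ha, pb_smul] at h3
      refine (appS_res γ _ _).symm.trans ?_
      refine (congrArg (appS γ (m ⁻¹ᵁ (ii G) ⁻¹ᵁ W)) h3.symm).trans ?_
      refine ((appS γ (m ⁻¹ᵁ (ii G) ⁻¹ᵁ W)).map_smul (rho (ii G) m W a) _).trans ?_
      refine congrArg (fun u => rho (ii G) m W a • u) ?_
      refine (congrArg (appS γ (m ⁻¹ᵁ (ii G) ⁻¹ᵁ W)) h4).trans ?_
      exact appS_res γ _ _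
    rw [h2, h2, h j]
  have hpb : ∀ (U : (Proj (gr n k)).Opens) (s : Sec (I G) U), pb (ii G) m (I G) U s = pullSec m (pullSec (ii G) s) :=
    fun U s => (secS_eq m _ _ _).trans (congrArg (pullSec m) (secS_eq (ii G) _ _ _))
  refine K583.ConMap.pull_pull_hom_ext (ii G) m fun U s => ?_
  exact (congrArg (appS α (m ⁻¹ᵁ (ii G) ⁻¹ᵁ U)) (hpb U s)).symm.trans
    ((key U s).trans (congrArg (appS β (m ⁻¹ᵁ (ii G) ⁻¹ᵁ U)) (hpb U s)))

end Ext

end K385.HypCon
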