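import Groth.Agent.Fano.K385.HypCon

/-!
# The map from the conormal sheaf of a hypersurface to `O(-1)^{n+1}`
-/

set_option autoImplicit false
universe u
open CategoryTheory CategoryTheory.Limits AlgebraicGeometry TopologicalSpace Opposite

namespace K385.HypCon

open Groth.Agent Groth.Agent.Sga67.Sec Groth.Agent.Dual.H366.ConSec Groth.Agent.Dual.H366.Conormal
open Groth.Agent.Krr.H492 Groth.Agent.Krr.H492.EulerDer Groth.Agent.Krr.H492.EulerLoc Groth.Agent.Krr.H492.EulerGen
open Groth.Agent.Krr.H492.EulerMap (δ δ_mul)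
open MvPolynomial K390.PnSec K385.Pairing
open Twist (Loc)
open Groth.Agent.Fdesc.LocGen (IsGen pullSec homOf ofFun)
open K54.Euler (ph)

variable {k : Type u} [Field k] {n d : ℕ} (G : LefPen.Form n k d)
variable {C : Scheme.{u}} (m : C ⟶ (LefPen.hypIdeal G).subscheme)

/-- `Ω_P → O(-1)` restricted to the hypersurface, from the conormal sheaf. -/
noncomputable def kap (l : Fin (n + 1)) : Omega.conormal (ii G) ⟶
    (Scheme.Modules.pullback (ii G)).obj (Twist.twist (gr n k) (-1)) :=
  dMap (ii G) (K54.Euler.f n k) ≫ (Scheme.Modules.pullback (ii G)).map (K54.Euler.Φ n k l)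

theorem kap_cS (l j : Fin (n + 1)) : appS (kap G l) ((ii G) ⁻¹ᵁ D j) (cS (ii G) (D j) (cc G j)) =
    secS (ii G) _ (D j) (δ n k l (D j) (g G j)) := by
  have h1 := dMap_cS (ii G) (K54.Euler.f n k) (D j) (cc G j)
  rw [valS_cc] at h1
  refine (congrArg (appS ((Scheme.Modules.pullback (ii G)).map (K54.Euler.Φ n k l)) ((ii G) ⁻¹ᵁ D j)) h1).trans ?_
  refine (K584.PullCon.secS_nat (ii G) (K54.Euler.Φ n k l) (D j) _).symm.trans ?_
  exact congrArg (secS (ii G) _ (D j)) (K54.Euler.Φ_d n k l (D j) (g G j))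

theorem rho_g (j : Fin (n + 1)) : rho (ii G) m (D j) (g G j) = 0 := by
  have h1 : ((ii G).app (D j)).hom (g G j) = 0 := app_g G j
  rw [rho, RingHom.comp_apply, h1, map_zero]

/-- The dehomogenized partial derivatives. -/
noncomputable def dg (l j : Fin (n + 1)) : Γ(Proj (gr n k), D (k := k) j) :=
  ph (m := n) (R := k) j (inside (k := k) j) (pderiv l (G.1 : MvPolynomial (Fin (n + 1)) k))

/-- The value on the class of the equation. -/
theorem kap_cls (l j : Fin (n + 1)) : appS ((Scheme.Modules.pullback m).map (kap G l)) (V (ii G) m j) (cls G m j) =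
    rho (ii G) m (D j) (dg G l j) • gA (ii G) m j := by
  refine (K584.PullCon.secS_nat m (kap G l) ((ii G) ⁻¹ᵁ D j) _).symm.trans ?_
  refine (congrArg (secS m _ ((ii G) ⁻¹ᵁ D j)) (kap_cS G l j)).trans ?_
  have h1 := δ_form (inside (k := k) j) l ((mem_homogeneousSubmodule _ _).1 G.2)
  refine (congrArg (pb (ii G) m _ (D j)) h1).trans ?_
  rw [pb_smul, map_sub]
  have h2 : rho (ii G) m (D j) (if l = j then (d : Γ(Proj (gr n k), D j)) * g G j else 0) = 0 := by
    split_ifs
    · rw [map_mul, rho_g, mul_zero]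
    · rw [map_zero]
  rw [h2, sub_zero]
  rfl

/-- Homomorphisms from the conormal sheaf given by the partial derivatives extend to `Ω_P`. -/
theorem exists_extend {L : C.Modules} {x : Fin (n + 1) → Γ(L, ⊤)} (hx : GivenBy (m ≫ ii G) L x)
    (θ : (Scheme.Modules.pullback m).obj (Omega.conormal (ii G)) ⟶ Coh.structureModule C)
    (s : Fin (n + 1) → Γ(L, ⊤)) (b : ∀ j : Fin (n + 1), Fin (n + 1) → Γ(C, V (ii G) m j))
    (hb : ∀ j l, Fdesc.LocGen.res L (le_top : V (ii G) m j ≤ ⊤) (s l) =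
      b j l • Fdesc.LocGen.res L (le_top : V (ii G) m j ≤ ⊤) (x j))
    (hθ : ∀ j, appS θ (V (ii G) m j) (cls G m j) = ofFun (∑ l, rho (ii G) m (D j) (dg G l j) * b j l)) :
    ∃ ψ : (Scheme.Modules.pullback m).obj ((Scheme.Modules.pullback (ii G)).obj
      (Omega.sheaf (K54.Euler.f n k))) ⟶ Coh.structureModule C,
      (Scheme.Modules.pullback m).map (dMap (ii G) (K54.Euler.f n k)) ≫ ψ = θ := by
  choose σ hσ using fun l => exists_sigma (ii G) m hx (s l)
  refine ⟨∑ l, (Scheme.Modules.pullback m).map ((Scheme.Modules.pullback (ii G)).map (K54.Euler.Φ n k l)) ≫ σ l, ?_⟩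
  rw [Preadditive.comp_sum]
  have h1 : ∀ l, (Scheme.Modules.pullback m).map (dMap (ii G) (K54.Euler.f n k)) ≫
      (Scheme.Modules.pullback m).map ((Scheme.Modules.pullback (ii G)).map (K54.Euler.Φ n k l)) ≫ σ l =
      (Scheme.Modules.pullback m).map (kap G l) ≫ σ l := by
    intro l
    rw [kap, Functor.map_comp, Category.assoc]
  rw [Finset.sum_congr rfl fun l _ => h1 l]
  refine con_hom_ext G m fun j => ?_
  rw [hθ, Groth.Agent.Krr.H492.EulerSeq.appS_sum, map_sum]
  refine Finset.sum_congr rfl fun l _ => ?_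
  rw [appS_comp]
  refine (congrArg (appS (σ l) (V (ii G) m j)) (kap_cls G m l j)).trans ?_
  refine ((appS (σ l) (V (ii G) m j)).map_smul _ _).trans ?_
  rw [hσ l j (b j l) (hb j l)]
  rfl

end K385.HypCon
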