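import Groth.Agent.Coherent.K54.Euler
import Groth.Agent.Fano.K385.GenHom
import Groth.Agent.OmegaSh.K584.PullCon
import Groth.Agent.Desc.K390.PnSec

/-!
# Sections of `O(1)` as homomorphisms from `O(-1)`

For `m : C ⟶ X`, `i : X ⟶ P^n` with `m ≫ i` given by the sections `x_0, …, x_n` of `L`, a section `s` of `L` defines a
homomorphism `m^* i^* O(-1) ⟶ O_C`, `T_j⁻¹ ↦ s / x_j`.
-/

set_option autoImplicit false
universe u
open CategoryTheory CategoryTheory.Limits AlgebraicGeometry TopologicalSpace Opposite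

namespace K385.Pairing

open Groth.Agent Groth.Agent.Sga67.Sec Groth.Agent.Dual.H366.ConSec
open Groth.Agent.Ega2.H295.PnCoord Groth.Agent.VarietyB
open Groth.Agent.Krr.H492 Groth.Agent.Krr.H492.EulerDer Groth.Agent.Krr.H492.EulerLoc Groth.Agent.Krr.H492.EulerGen
open Groth.Agent.Krr.H492.EulerMap (δ δ_mul)
open MvPolynomial K390.PnSec
open Twist (Loc)
open Groth.Agent.Fdesc.LocGen (IsGen pullSec homOf)

variable {k : Type u} [Field k] {n : ℕ}

/-- The standard open subset. -/
noncomputable abbrev D (j : Fin (n + 1)) : (Proj (gr n k)).Opens := Proj.basicOpen (gr n k) (X j)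

theorem inside (j : Fin (n + 1)) : Inside (R := k) j (D j) := fun _ hx => hx

theorem y_eq_ratio (j l : Fin (n + 1)) : y j l (inside (k := k) j) = ProjStd.ratio (Fin (n + 1)) k j l := by
  apply ev_inj
  intro x
  rw [ev_y]
  exact (ProjStd.ratio_apply (Fin (n + 1)) k j l x).symm

section Pull

variable {X W : Scheme.{u}} (s : X ⟶ W) (M : W.Modules)

theorem secS_eq (V : W.Opens) (x : Sec M V) : secS s M V x = pullSec s x := by
  change res _ (le_refl _) (pullSec s x) = pullSec s x
  exact res_self _ _ _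

theorem isGen_secS {V : W.Opens} {x : Sec M V} (h : IsGen (M := M) (U := V) x) :
    IsGen (M := (Scheme.Modules.pullback s).obj M) (U := s ⁻¹ᵁ V) (secS s M V x) := by
  have h1 := Fdesc.LocGen.IsGen.pullSec s h
  rw [secS_eq]
  exact h1

end Pull

theorem isGen_ea (j : Fin (n + 1)) : IsGen (M := Twist.twist (gr n k) (-1)) (U := D j) (ea j (inside (k := k) j)) := by
  intro V h
  exact bijective_ea j ((inside (k := k) j).mono h)

/-- change of charts for the generators of `O(-1)`. -/
theorem res_ea (j l : Fin (n + 1)) (V : (Proj (gr n k)).Opens) (hj : V ≤ D j) (hl : V ≤ D l) :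
    res (Twist.twist (gr n k) (-1)) hj (ea j (inside (k := k) j)) =
      resO _ hj (y j l (inside j)) • res _ hl (ea l (inside l)) := by
  apply evS_inj
  intro x
  have hjx := inside (k := k) j x.1 (hj x.2)
  have hlx := inside (k := k) l x.1 (hl x.2)
  have h1 : evS (-1) x (res (Twist.twist (gr n k) (-1)) hj (ea j (inside (k := k) j))) =
      (Localization.mk 1 ⟨X j, hjx⟩ : Loc (gr n k) x.1) := evS_ea j (inside (k := k) j) ⟨x.1, hj x.2⟩
  have h2 : evS (-1) x (res (Twist.twist (gr n k) (-1)) hl (ea l (inside (k := k) l))) =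
      (Localization.mk 1 ⟨X l, hlx⟩ : Loc (gr n k) x.1) := evS_ea l (inside (k := k) l) ⟨x.1, hl x.2⟩
  have h3 : ev x (resO _ hj (y j l (inside (k := k) j))) = (Localization.mk (X l) ⟨X j, hjx⟩ : Loc (gr n k) x.1) :=
    ev_y j l (inside (k := k) j) ⟨x.1, hj x.2⟩
  rw [evS_smul, h1, h2, h3, Localization.mk_mul, Localization.mk_eq_mk_iff, Localization.r_iff_exists]
  refine ⟨1, ?_⟩
  simp

section Der

theorem smul_aux {A M : Type*} [CommRing A] [AddCommGroup M] [Module A M] (p r y t : A) (e : M) :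
    p • (r • e) + y • (t • e) = (p * r + y * t) • e := by
  rw [smul_smul, smul_smul, add_smul]

variable {a : Fin (n + 1)} {W : (Proj (gr n k)).Opens} (hW : Inside (R := k) a W)

/-- The derivative of a polynomial in the `T_k / T_a`. -/
theorem δ_ph (l : Fin (n + 1)) (F : MvPolynomial (Fin (n + 1)) k) :
    δ n k l W (K54.Euler.ph a hW F) = (K54.Euler.ph a hW (pderiv l F) -
      (if l = a then ∑ j, K54.Euler.ph a hW (pderiv j F) * y a j hW else 0)) • ea a hW := by
  induction F using MvPolynomial.induction_on with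
  | C c =>
    rw [K54.Euler.ph_C, K54.Euler.δ_cst]
    simp
  | add p q hp hq =>
    rw [map_add, map_add, hp, hq, ← add_smul]
    congr 1
    split_ifs
    · simp only [map_add, add_mul, Finset.sum_add_distrib]
      ring
    · simp only [map_add]
      ring
  | mul_X p j hp =>
    have h1 : ∀ i : Fin (n + 1), K54.Euler.ph a hW (pderiv i (p * X j)) =
        K54.Euler.ph a hW (pderiv i p) * y a j hW + (if i = j then K54.Euler.ph a hW p else 0) := by
      intro i
      rw [Derivation.leibniz, smul_eq_mul, smul_eq_mul, map_add, map_mul, map_mul, pderiv_X, K54.Euler.ph_X]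
      by_cases h : i = j
      · subst h
        simp
        ring
      · rw [Pi.single_eq_of_ne (Ne.symm h), if_neg h, map_zero]
        ring
    have h2 : ∑ i, K54.Euler.ph a hW (pderiv i (p * X j)) * y a i hW =
        (∑ i, K54.Euler.ph a hW (pderiv i p) * y a i hW) * y a j hW + K54.Euler.ph a hW p * y a j hW := by
      simp only [h1, add_mul, Finset.sum_add_distrib, ite_mul, zero_mul, Finset.sum_ite_eq', Finset.mem_univ,
        if_true, Finset.sum_mul]
      congr 1
      exact Finset.sum_congr rfl fun i _ => by ring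
    have h3 : δ n k l W (y a j hW) = ((if l = j then (1 : Γ(Proj (gr n k), W)) else 0) -
        (if l = a then (1 : Γ(Proj (gr n k), W)) else 0) * y a j hW) • ea a hW := by
      refine (δ_y a j l hW).trans ?_
      exact (congrArg₂ (· - ·) rfl (smul_smul _ _ _)).trans (sub_smul _ _ _).symm
    have h4 : δ n k l W (K54.Euler.ph a hW (p * X j)) =
        K54.Euler.ph a hW p • δ n k l W (y a j hW) + y a j hW • δ n k l W (K54.Euler.ph a hW p) := by
      rw [map_mul, K54.Euler.ph_X]
      exact δ_mul n k l W _ _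
    have h5 : K54.Euler.ph a hW p * ((if l = j then (1 : Γ(Proj (gr n k), W)) else 0) -
        (if l = a then (1 : Γ(Proj (gr n k), W)) else 0) * y a j hW) +
        y a j hW * (K54.Euler.ph a hW (pderiv l p) -
          (if l = a then ∑ j, K54.Euler.ph a hW (pderiv j p) * y a j hW else 0)) =
        K54.Euler.ph a hW (pderiv l (p * X j)) -
          (if l = a then ∑ i, K54.Euler.ph a hW (pderiv i (p * X j)) * y a i hW else 0) := by
      have h6 := h1 l
      by_cases hla : l = a
      · rw [if_pos hla, if_pos hla, if_pos hla, h6, h2]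
        split_ifs <;> ring
      · rw [if_neg hla, if_neg hla, if_neg hla, h6]
        split_ifs <;> ring
    refine h4.trans ?_
    have h7 : K54.Euler.ph a hW p • δ n k l W (y a j hW) + y a j hW • δ n k l W (K54.Euler.ph a hW p) =
      K54.Euler.ph a hW p • (((if l = j then (1 : Γ(Proj (gr n k), W)) else 0) -
        (if l = a then (1 : Γ(Proj (gr n k), W)) else 0) * y a j hW) • ea a hW) +
      y a j hW • ((K54.Euler.ph a hW (pderiv l p) -
          (if l = a then ∑ j, K54.Euler.ph a hW (pderiv j p) * y a j hW else 0)) • ea a hW) :=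
      congrArg₂ (fun u v => K54.Euler.ph a hW p • u + y a j hW • v) h3 hp
    exact h7.trans ((smul_aux _ _ _ _ _).trans (congrArg (fun u => u • ea a hW) h5))

end Der

/-- The derivative of `G / T_a^d`. -/
theorem δ_form {a : Fin (n + 1)} {W : (Proj (gr n k)).Opens} (hW : Inside (R := k) a W) (l : Fin (n + 1)) {d : ℕ}
    {G : MvPolynomial (Fin (n + 1)) k} (hG : G.IsHomogeneous d) :
    δ n k l W (K54.Euler.ph a hW G) = (K54.Euler.ph a hW (pderiv l G) -
      (if l = a then (d : Γ(Proj (gr n k), W)) * K54.Euler.ph a hW G else 0)) • ea a hW := by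
  have h1 : ∑ j, K54.Euler.ph a hW (pderiv j G) * y a j hW = (d : Γ(Proj (gr n k), W)) * K54.Euler.ph a hW G := by
    have h2 := congrArg (K54.Euler.ph a hW) hG.sum_X_mul_pderiv
    rw [map_sum, map_nsmul, nsmul_eq_mul] at h2
    rw [← h2]
    exact Finset.sum_congr rfl fun j _ => by rw [map_mul, K54.Euler.ph_X, mul_comm]
  rw [← h1]
  exact δ_ph hW l G

section Sigma

variable {X C : Scheme.{u}} (i : X ⟶ Proj (gr n k)) (m : C ⟶ X) {L : C.Modules} {x : Fin (n + 1) → Γ(L, ⊤)}
  (hx : GivenBy (m ≫ i) L x)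

/-- The preimages of the standard open subsets. -/
noncomputable abbrev V (j : Fin (n + 1)) : C.Opens := m ⁻¹ᵁ i ⁻¹ᵁ D (k := k) j

/-- Pull back of functions. -/
noncomputable def rho (W : (Proj (gr n k)).Opens) : Γ(Proj (gr n k), W) →+* Γ(C, m ⁻¹ᵁ i ⁻¹ᵁ W) :=
  (m.app (i ⁻¹ᵁ W)).hom.comp (i.app W).hom

theorem rho_res {W W' : (Proj (gr n k)).Opens} (h : W' ≤ W) (c : Γ(Proj (gr n k), W)) :
    rho i m W' (resO _ h c) = resO C (m.preimage_mono (i.preimage_mono h)) (rho i m W c) := by
  have h1 := congr($(i.naturality (homOfLE h).op) c)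
  have h2 := congr($(m.naturality (homOfLE (i.preimage_mono h)).op) (i.app W c))
  have h3 : i.app W' (resO _ h c) = resO X (i.preimage_mono h) (i.app W c) := h1
  have h4 : m.app (i ⁻¹ᵁ W') (resO X (i.preimage_mono h) (i.app W c)) =
    resO C (m.preimage_mono (i.preimage_mono h)) (m.app (i ⁻¹ᵁ W) (i.app W c)) := h2
  exact (congrArg (m.app (i ⁻¹ᵁ W')) h3).trans h4

theorem rho_eq_appLE (W : (Proj (gr n k)).Opens) (c : Γ(Proj (gr n k), W)) :
    rho i m W c = (m ≫ i).appLE W (m ⁻¹ᵁ i ⁻¹ᵁ W) le_rfl c := by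
  have h : (m ≫ i).appLE W (m ⁻¹ᵁ i ⁻¹ᵁ W) le_rfl = (m ≫ i).app W := Scheme.Hom.appLE_eq_app _
  rw [h, Scheme.Hom.comp_app]
  rfl

theorem iSup_V : ⨆ j, V i m j = ⊤ := iSup_preimage (m ≫ i)

include hx in
theorem isGen_x (j : Fin (n + 1)) : IsGen (Fdesc.LocGen.res L (le_top : V i m j ≤ ⊤) (x j)) := by
  obtain ⟨τ, hτ⟩ := hx
  have h1 := isGen_res_tsec (m ≫ i) j (V := V i m j) le_rfl
  have h3 := (Fdesc.LocGen.app_res τ.hom (le_top : V i m j ≤ ⊤) (tsec (m ≫ i) j)).trans
    (congrArg (Fdesc.LocGen.res L (le_top : V i m j ≤ ⊤)) (hτ j))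
  exact h3 ▸ Fdesc.LocGen.IsGen.app τ.hom h1

include hx in
theorem res_x (j l : Fin (n + 1)) : Fdesc.LocGen.res L (le_top : V i m j ≤ ⊤) (x l) =
    rho i m (D j) (y j l (inside j)) • Fdesc.LocGen.res L (le_top : V i m j ≤ ⊤) (x j) := by
  obtain ⟨τ, hτ⟩ := hx
  have h1 := res_tsec (m ≫ i) j l (V := V i m j) le_rfl
  have h3 : ∀ l, τ.hom.app (V i m j) (Fdesc.LocGen.res _ (le_top : V i m j ≤ ⊤) (tsec (m ≫ i) l)) =
      Fdesc.LocGen.res L (le_top : V i m j ≤ ⊤) (x l) := fun l =>
    (Fdesc.LocGen.app_res τ.hom (le_top : V i m j ≤ ⊤) (tsec (m ≫ i) l)).trans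
    (congrArg (Fdesc.LocGen.res L (le_top : V i m j ≤ ⊤)) (hτ l))
  have h2 := (h3 l).symm.trans ((congrArg (τ.hom.app (V i m j)) h1).trans
    (Scheme.Modules.Hom.app_smul τ.hom _ _))
  rw [y_eq_ratio, rho_eq_appLE]
  refine h2.trans ?_
  exact congrArg (fun u : Γ(L, V i m j) => ((m ≫ i).appLE (D j) (V i m j) le_rfl
    (ProjStd.ratio (Fin (n + 1)) k j l) : Γ(C, V i m j)) • u) (h3 j)

end Sigma

end K385.Pairing
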