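import Groth.Agent.Fano.K385.Pairing

/-!
# Sections of `O(1)` as homomorphisms from `O(-1)`: existence
-/

set_option autoImplicit false
universe u
open CategoryTheory CategoryTheory.Limits AlgebraicGeometry TopologicalSpace Opposite

namespace K385.Pairing

open Groth.Agent Groth.Agent.Sga67.Sec Groth.Agent.Dual.H366.ConSec
open Groth.Agent.Ega2.H295.PnCoord Groth.Agent.VarietyB
open Groth.Agent.Krr.H492 Groth.Agent.Krr.H492.EulerDer Groth.Agent.Krr.H492.EulerLoc Groth.Agent.Krr.H492.EulerGen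
open Groth.Agent.Krr.H492.EulerMap (δ δ_mul)
open MvPolynomial K390.PnSec
open Twist (Loc)
open Groth.Agent.Fdesc.LocGen (IsGen pullSec homOf ofFun)

variable {k : Type u} [Field k] {n : ℕ}
variable {X C : Scheme.{u}} (i : X ⟶ Proj (gr n k)) (m : C ⟶ X) {L : C.Modules} {x : Fin (n + 1) → Γ(L, ⊤)}
  (hx : GivenBy (m ≫ i) L x)

/-- Pull back of sections of a module on projective space. -/
noncomputable def pb (M : (Proj (gr n k)).Modules) (W : (Proj (gr n k)).Opens) : Sec M W →+
    Sec ((Scheme.Modules.pullback m).obj ((Scheme.Modules.pullback i).obj M)) (m ⁻¹ᵁ i ⁻¹ᵁ W) :=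
  (secS m _ (i ⁻¹ᵁ W)).comp (secS i M W)

theorem pb_smul (M : (Proj (gr n k)).Modules) (W : (Proj (gr n k)).Opens) (c : Γ(Proj (gr n k), W)) (s : Sec M W) :
    pb i m M W (c • s) = rho i m W c • pb i m M W s := by
  rw [pb, AddMonoidHom.comp_apply, AddMonoidHom.comp_apply, secS_smul, secS_smul]
  rfl

theorem pb_res (M : (Proj (gr n k)).Modules) {W W' : (Proj (gr n k)).Opens} (h : W' ≤ W) (s : Sec M W) :
    pb i m M W' (res M h s) = res _ (m.preimage_mono (i.preimage_mono h)) (pb i m M W s) := by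
  rw [pb, AddMonoidHom.comp_apply, secS_res, secS_res]
  rfl

/-- `m^* i^* O(-1)`. -/
noncomputable abbrev A : C.Modules :=
  (Scheme.Modules.pullback m).obj ((Scheme.Modules.pullback i).obj (Twist.twist (gr n k) (-1)))

/-- The generator. -/
noncomputable def gA (j : Fin (n + 1)) : Sec (A i m) (V i m j) :=
  pb i m (Twist.twist (gr n k) (-1)) (D j) (ea j (inside j))

theorem isGen_gA (j : Fin (n + 1)) : IsGen (M := A i m) (U := V i m j) (gA i m j) :=
  isGen_secS m _ (isGen_secS i _ (isGen_ea j))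

theorem res_gA (j l : Fin (n + 1)) :
    res (A i m) (m.preimage_mono (i.preimage_mono (inf_le_left : D (k := k) j ⊓ D l ≤ D j))) (gA i m j) =
      rho i m (D j ⊓ D l) (resO _ inf_le_left (y j l (inside j))) •
        res (A i m) (m.preimage_mono (i.preimage_mono (inf_le_right : D (k := k) j ⊓ D l ≤ D l))) (gA i m l) := by
  have h1 := congrArg (pb i m (Twist.twist (gr n k) (-1)) (D j ⊓ D l))
    (res_ea j l (D (k := k) j ⊓ D l) inf_le_left inf_le_right)
  rw [pb_smul, pb_res, pb_res] at h1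
  exact h1

include hx in
theorem exists_sigma (s : Γ(L, ⊤)) : ∃ σ : A i m ⟶ Coh.structureModule C, ∀ (j : Fin (n + 1)) (b : Γ(C, V i m j)),
    Fdesc.LocGen.res L (le_top : V i m j ≤ ⊤) s = b • Fdesc.LocGen.res L (le_top : V i m j ≤ ⊤) (x j) →
      appS σ (V i m j) (gA i m j) = ofFun b := by
  choose b hb using fun j => (isGen_x i m hx j).exists_eq (Fdesc.LocGen.res L (le_top : V i m j ≤ ⊤) s)
  have key : ∀ (j l : Fin (n + 1)) (W : C.Opens) (hj : W ≤ V i m j) (hl : W ≤ V i m l),
      resO C hj (b j) = resO C hl (b l) * resO C hj (rho i m (D j) (y j l (inside j))) := by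
    intro j l W hj hl
    refine ((isGen_x i m hx j).res hj).ext ?_
    have h1 : ∀ (l : Fin (n + 1)) (hl : W ≤ V i m l), Fdesc.LocGen.res L (le_top : W ≤ ⊤) s =
        resO C hl (b l) • Fdesc.LocGen.res L (le_top : W ≤ ⊤) (x l) := by
      intro l hl
      have h2 := congrArg (Fdesc.LocGen.res L hl) (hb l)
      rw [Fdesc.LocGen.res_smul, Fdesc.LocGen.res_res, Fdesc.LocGen.res_res] at h2
      exact h2
    have h3 := congrArg (Fdesc.LocGen.res L hj) (res_x i m hx j l)
    rw [Fdesc.LocGen.res_smul, Fdesc.LocGen.res_res, Fdesc.LocGen.res_res] at h3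
    rw [Fdesc.LocGen.res_res]
    refine (h1 j hj).symm.trans ((h1 l hl).trans ?_)
    rw [mul_smul]
    exact congrArg (fun u : Γ(L, W) => resO C hl (b l) • u) h3
  obtain ⟨σ, hσ⟩ := GenHom.exists_hom (A i m) (Coh.structureModule C) (U := V i m) (gA i m) (isGen_gA i m)
    (iSup_V i m) (fun j => ofFun (b j)) (by
      intro j l W hj hl c hc
      have hjl : W ≤ m ⁻¹ᵁ i ⁻¹ᵁ (D (k := k) j ⊓ D l) := le_inf hj hl
      have h1 := congrArg (res (A i m) hjl) (res_gA i m j l)
      rw [res_smul, res_res, res_res] at h1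
      have h2 : c = resO C hjl (rho i m (D j ⊓ D l) (resO _ inf_le_left (y j l (inside j)))) := by
        refine ((isGen_gA i m l).res hl).ext ?_
        exact hc.symm.trans h1
      have h3 : c = resO C hj (rho i m (D j) (y j l (inside j))) := by
        rw [h2, rho_res, resO_resO]
      have h4 := key j l W hj hl
      rw [← h3, mul_comm] at h4
      exact congrArg ofFun h4)
  refine ⟨σ, fun j b' hb' => ?_⟩
  have h1 : b' = b j := (isGen_x i m hx j).ext (hb'.symm.trans (hb j))
  rw [h1]
  exact hσ j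

end K385.Pairing
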